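import Cfsg.Agent.TIMany.Count

/-!
# The centralizer of the involution and the absence of third fixed points
-/

set_option autoImplicit false
set_option linter.unusedSectionVars false

open Subgroup

namespace CfsgLib.TIMany

variable {G : Type*} [Group G] [Finite G] {M : Subgroup G} {z : G}

theorem kInv {s : G} (hs : s ∈ kSet M z) : s⁻¹ = s := inv_eq_of_mul_eq_one_right hs.1.2.1

theorem Hyp.z_comp_conj (h : Hyp M z) {x c : G} (hx : x ∈ M) (hc : c ∈ comp M z) :
    z * (x * c) * z = x⁻¹ * c := by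
  calc z * (x * c) * z = z * x * (c * z) := by group
    _ = z * x * z * c := by rw [(mem_comp.1 hc).2]; group
    _ = x⁻¹ * c := by rw [h.z_inverts hx]

/-- The outside involutions centralising `z` invert its centralizer in the normalizer. -/
theorem Hyp.inv_comp (h : Hyp M z) (hmany : M.index < Nat.card {g : G // orderOf g = 2})
    {s c : G} (hs : s ∈ kSet M z) (hc : c ∈ comp M z) : s * c * s = c⁻¹ := by
  have hcN := (mem_comp.1 hc).1
  have hcs : c * s ∉ normalizer (M : Set G) := fun hm =>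
    hs.1.2.2 (by simpa using mul_mem (inv_mem hcN) hm)
  obtain ⟨x, hx, u, hu, e⟩ := h.key hmany hcs
  have eu : u = x⁻¹ * c * s := by rw [mul_assoc, e, inv_mul_cancel_left]
  have eu' : z * u * z⁻¹ = x * c * s := by
    rw [eu, h.z_inv]
    calc z * (x⁻¹ * c * s) * z = z * (x⁻¹ * c) * (s * z) := by group
      _ = z * (x⁻¹ * c) * z * s := by rw [hs.2]; group
      _ = x * c * s := by rw [h.z_comp_conj (inv_mem hx) hc, inv_inv]
  have hu' : z * u * z⁻¹ ∈ outInv M := conj_outInv hu h.z_mem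
  have e2 : x * x * u = 1 * (z * u * z⁻¹) := by rw [eu', eu]; group
  obtain ⟨h1, -⟩ := h.mul_inj (mul_mem hx hx) (one_mem _) hu hu' e2
  obtain rfl := h.mem_of_sq_eq_one hx h1
  rw [inv_one, one_mul] at eu
  subst eu
  refine eq_inv_of_mul_eq_one_right ?_
  calc c * (s * c * s) = c * s * (c * s) := by group
    _ = 1 := hu.2.1

theorem Hyp.comp_comm (h : Hyp M z) (hmany : M.index < Nat.card {g : G // orderOf g = 2})
    {s : G} (hs : s ∈ kSet M z) {c d : G} (hc : c ∈ comp M z) (hd : d ∈ comp M z) :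
    c * d = d * c := by
  have e : (c * d)⁻¹ = c⁻¹ * d⁻¹ := by
    rw [← h.inv_comp hmany hs (mul_mem hc hd), ← h.inv_comp hmany hs hc, ← h.inv_comp hmany hs hd]
    simp [mul_assoc, ← mul_assoc s s, hs.1.2.1]
  have := congrArg Inv.inv e
  simpa using this

/-- The intersection of the normalizer with its conjugate by `s` is the complement. -/
theorem Hyp.pair (h : Hyp M z) (hmany : M.index < Nat.card {g : G // orderOf g = 2})
    {s g : G} (hs : s ∈ kSet M z) (hg : g ∈ normalizer (M : Set G))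
    (hsg : s * g * s ∈ normalizer (M : Set G)) : g ∈ comp M z := by
  obtain ⟨x, hx, c, hc, rfl⟩ := h.decomp hg
  have e1 : s * (x * c) * s = s * x * s * c⁻¹ := by
    rw [← h.inv_comp hmany hs hc]
    simp [mul_assoc, ← mul_assoc s s, hs.1.2.1]
  have hN : s * x * s ∈ normalizer (M : Set G) := by
    have := mul_mem hsg (mem_comp.1 hc).1
    rwa [e1, inv_mul_cancel_right] at this
  obtain ⟨x1, hx1, c1, hc1, e2⟩ := h.decomp hN
  have e3 : x1⁻¹ * c1 = c1⁻¹ * x1⁻¹ := by
    rw [← h.z_comp_conj hx1 hc1, ← mul_inv_rev, ← e2]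
    calc z * (s * x * s) * z = z * s * x * (s * z) := by group
      _ = s * z * x * (z * s) := by rw [hs.2]
      _ = s * (z * x * z) * s := by group
      _ = (s * x * s)⁻¹ := by rw [h.z_inverts hx, mul_inv_rev, mul_inv_rev, kInv hs, mul_assoc]
  have hc1N := (mem_comp.1 hc1).1
  have e4 : x1⁻¹ * c1 = c1⁻¹ * x1⁻¹ * c1 * c1⁻¹ := by rw [mul_inv_cancel_right]; exact e3
  have hm : c1⁻¹ * x1⁻¹ * c1 ∈ M := by
    simpa using conj_mem (inv_mem hc1N) (inv_mem hx1)
  obtain ⟨-, hcc⟩ := h.decomp_unique (inv_mem hx1) hm hc1 (inv_mem hc1) e4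
  have hx0 : x = 1 := by
    rcases h.comp_invol hc1 (mul_eq_one_iff_eq_inv.2 hcc) with rfl | rfl
    · by_contra hne
      refine hs.1.2.2 (h.ti s x hx hne ?_)
      rw [kInv hs, e2, mul_one]
      exact hx1
    · refine h.mem_of_sq_eq_one hx ?_
      have h2 := (h.mul_z_invol hx1).2
      rw [← e2] at h2
      calc x * x = s * (s * x * s * (s * x * s)) * s := by
            simp [mul_assoc, ← mul_assoc s s, hs.1.2.1]
        _ = 1 := by rw [h2, mul_one, hs.1.2.1]
  simpa [hx0] using hc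

/-- Elements outside the normalizer centralising `z` lie in `kSet`. -/
theorem Hyp.mem_kSet_of_comm (h : Hyp M z) (hmany : M.index < Nat.card {g : G // orderOf g = 2})
    {g : G} (hg : g ∉ normalizer (M : Set G)) (hgz : g * z = z * g) : g ∈ kSet M z := by
  obtain ⟨x, hx, t, ht, rfl⟩ := h.key hmany hg
  obtain ⟨y, hy, s, hs, rfl⟩ := h.exists_kSet hmany ht
  have hyz : y⁻¹ * z * y ∈ normalizer (M : Set G) :=
    mul_mem (mul_mem (inv_mem (M_le_norm hy)) h.z_mem) (M_le_norm hy)
  have e1 : s * (y⁻¹ * z * y) * s = (x * y)⁻¹ * z * (x * y) := by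
    calc s * (y⁻¹ * z * y) * s = (x * y)⁻¹ * (x * (y * s * y⁻¹) * z) * y * s := by group
      _ = (x * y)⁻¹ * z * (x * y) * (s * s) := by rw [hgz]; group
      _ = (x * y)⁻¹ * z * (x * y) := by rw [hs.1.2.1, mul_one]
  have hN2 : s * (y⁻¹ * z * y) * s ∈ normalizer (M : Set G) := by
    rw [e1]
    exact mul_mem (mul_mem (inv_mem (M_le_norm (mul_mem hx hy))) h.z_mem) (M_le_norm (mul_mem hx hy))
  have h1 := h.pair hmany hs hyz hN2
  have eyz : y⁻¹ * z * y = y⁻¹ * y⁻¹ * z := by
    calc y⁻¹ * z * y = y⁻¹ * (z * y * z) * z := by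
          simp [mul_assoc, h.z_sq]
      _ = y⁻¹ * y⁻¹ * z := by rw [h.z_inverts hy]
  rw [eyz] at h1
  have hy1 := h.mem_of_sq_eq_one (inv_mem hy)
    (h.comp_inf (mul_mem (inv_mem hy) (inv_mem hy))
      (by simpa [mul_assoc, h.z_sq] using mul_mem h1 h.z_mem_comp))
  obtain rfl := inv_eq_one.1 hy1
  have e2 : x⁻¹ * z * x = z := by
    simpa [← hs.2, mul_assoc, hs.1.2.1, ← mul_assoc s s] using e1.symm
  have hx1 : x = 1 := by
    by_contra hne
    refine h.odd x hx hne z h.z_ne h.z_sq ?_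
    calc z * x = x * (x⁻¹ * z * x) := by group
      _ = x * z := by rw [e2]
  simpa [hx1] using hs

/-- No non-trivial element of the complement centralises a non-trivial element of `M`. -/
theorem Hyp.fix_third (h : Hyp M z) (hmany : M.index < Nat.card {g : G // orderOf g = 2})
    {s c m0 : G} (hs : s ∈ kSet M z) (hc : c ∈ comp M z) (hm0 : m0 ∈ M) (hm1 : m0 ≠ 1)
    (hcm : c * m0 = m0 * c) : c = 1 := by
  have hgN : s * m0 * s ∉ normalizer (M : Set G) := fun hm =>
    hm1 (h.comp_inf hm0 (h.pair hmany hs (M_le_norm hm0) hm))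
  have hsc : s * c * s = c⁻¹ := h.inv_comp hmany hs hc
  have hgc : s * m0 * s * c = c * (s * m0 * s) := by
    have e : s * c = c⁻¹ * s := by
      calc s * c = s * c * (s * s) := by rw [hs.1.2.1, mul_one]
        _ = c⁻¹ * s := by rw [← hsc]; group
    have e' : c * s = s * c⁻¹ := by
      calc c * s = c * (s * c) * c⁻¹ := by group
        _ = s * c⁻¹ := by rw [e]; group
    calc s * m0 * s * c = s * m0 * (c⁻¹ * s) := by rw [← e]; group
      _ = s * (c⁻¹ * (c * m0) * c⁻¹) * s := by group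
      _ = s * (c⁻¹ * (m0 * c) * c⁻¹) * s := by rw [hcm]
      _ = (s * c⁻¹) * m0 * s := by group
      _ = c * (s * m0 * s) := by rw [← e']; group
  obtain ⟨u, hu, t, ht, e⟩ := h.key hmany hgN
  obtain ⟨a, ha, s1, hs1, rfl⟩ := h.exists_kSet hmany ht
  have hv : u * a ∈ M := mul_mem hu ha
  have haN := M_le_norm ha
  have hvN := M_le_norm hv
  have hcN := (mem_comp.1 hc).1
  have e1 : s1 * (a⁻¹ * c * a) * s1 = (u * a)⁻¹ * c * (u * a) := by
    calc s1 * (a⁻¹ * c * a) * s1 = (u * a)⁻¹ * (u * (a * s1 * a⁻¹) * c) * a * s1 := by group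
      _ = (u * a)⁻¹ * c * (u * a) * (s1 * s1) := by rw [← e, hgc, e]; group
      _ = (u * a)⁻¹ * c * (u * a) := by rw [hs1.1.2.1, mul_one]
  have hin : a⁻¹ * c * a ∈ normalizer (M : Set G) := mul_mem (mul_mem (inv_mem haN) hcN) haN
  have h1 := h.pair hmany hs1 hin (by
    rw [e1]; exact mul_mem (mul_mem (inv_mem hvN) hcN) hvN)
  have hac : a⁻¹ * c * a = c :=
    (h.decomp_unique (x := a⁻¹ * (c * a * c⁻¹)) (x' := 1)
      (mul_mem (inv_mem ha) (conj_mem hcN ha)) (one_mem _) hc h1 (by group)).2.symm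
  rw [hac, h.inv_comp hmany hs1 hc] at e1
  have hcc : c⁻¹ = c := ((h.decomp_unique (x := (u * a)⁻¹ * (c * (u * a) * c⁻¹)) (x' := 1)
      (mul_mem (inv_mem hv) (conj_mem hcN hv)) (one_mem _) hc (inv_mem hc)
      (by rw [one_mul]; refine Eq.trans ?_ e1.symm; group)).2).symm
  rcases h.comp_invol hc (by nth_rewrite 1 [← hcc]; exact inv_mul_cancel c) with hc1 | rfl
  · exact hc1
  · exact absurd hcm (h.odd m0 hm0 hm1 c h.z_ne h.z_sq)

end CfsgLib.TIMany
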