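import Cfsg.Prelude.Def_Transfer
import Cfsg.Prelude.Def_LieExceptional
import Cfsg.Agent.TIMany.Local
import Cfsg.Agent.Zass.HalfPSL
import Cfsg.Agent.Zass.Sharp
import Cfsg.Agent.Zass.LargeFpf
import Cfsg.Agent.Zass.PairStabilizer
import Cfsg.Agent.Perm.SharplyThreePGL
import Cfsg.Agent.Perm.SharplyThreeSetup
import Cfsg.Agent.Suborbit.Dihedral

/-!
# The doubly transitive case: the centralizer of `z` is generalised dihedral
-/

set_option autoImplicit false
set_option linter.unusedSectionVars false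
set_option linter.style.haveILetI false

open Subgroup MulAction

namespace CfsgLib.TIMany

universe u

variable {G : Type u} [Group G] [Finite G] {M : Subgroup G} {z : G}

theorem smul_mk_eq {H : Subgroup G} (g a b : G) :
    g • (a : G ⧸ H) = (b : G ⧸ H) ↔ b⁻¹ * (g * a) ∈ H := by
  rw [eq_comm]
  exact QuotientGroup.eq

theorem smul_one_eq {H : Subgroup G} (g : G) : g • ((1 : G) : G ⧸ H) = (1 : G) ↔ g ∈ H := by
  rw [smul_mk_eq]
  simp

/-- The data of the doubly transitive case. -/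
structure Dbl (M : Subgroup G) (z s : G) : Prop where
  hyp : Hyp M z
  many : M.index < Nat.card {g : G // orderOf g = 2}
  mem : s ∈ kSet M z
  closed : ∀ a ∈ kSet M z, ∀ b ∈ kSet M z, a * b ∈ comp M z

variable {s : G}

theorem Dbl.card_kSet (d : Dbl M z s) : Nat.card (kSet M z) = Nat.card (comp M z) := by
  have hmem : ∀ c : comp M z, (c : G) * s ∈ kSet M z := fun c => by
    refine d.hyp.mem_kSet_of_comm d.many (fun hm => d.mem.1.2.2 ?_) ?_
    · simpa using mul_mem (inv_mem (mem_comp.1 c.2).1) hm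
    · rw [mul_assoc, d.mem.2, ← mul_assoc, (mem_comp.1 c.2).2, mul_assoc]
  refine (Nat.card_congr (Equiv.ofBijective (fun c : comp M z => (⟨_, hmem c⟩ : kSet M z)) ⟨?_, ?_⟩)).symm
  · intro c c' e
    exact Subtype.ext (mul_right_cancel (congrArg Subtype.val e))
  · rintro ⟨a, ha⟩
    refine ⟨⟨a * s, d.closed a ha s d.mem⟩, Subtype.ext ?_⟩
    show a * s * s = a
    rw [mul_assoc, d.mem.1.2.1, mul_one]

theorem Dbl.card_points (d : Dbl M z s) :
    Nat.card (G ⧸ normalizer (M : Set G)) = Nat.card M + 1 := by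
  have h1 := d.hyp.card_group d.many
  rw [d.card_kSet, card_eq_card_quotient_mul_card_subgroup (normalizer (M : Set G)),
    d.hyp.card_norm] at h1
  have hpos : 0 < Nat.card M * Nat.card (comp M z) := Nat.mul_pos Nat.card_pos Nat.card_pos
  refine Nat.eq_of_mul_eq_mul_right hpos ?_
  rw [h1]
  ring

theorem Dbl.s_ne (d : Dbl M z s) :
    ((s : G) : G ⧸ normalizer (M : Set G)) ≠ ((1 : G) : G ⧸ normalizer (M : Set G)) := fun e => by
  rw [QuotientGroup.eq, mul_one] at e
  exact d.mem.1.2.2 (inv_mem_iff.1 e)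

theorem Dbl.pair_stab (d : Dbl M z s) :
    stabilizer G ((1 : G) : G ⧸ normalizer (M : Set G)) ⊓ stabilizer G ((s : G) : G ⧸ normalizer (M : Set G))
      = comp M z := by
  ext g
  rw [mem_inf, mem_stabilizer_iff, mem_stabilizer_iff, smul_one_eq, smul_mk_eq, kInv d.mem]
  constructor
  · rintro ⟨h1, h2⟩
    exact d.hyp.pair d.many d.mem h1 (by rwa [← mul_assoc] at h2)
  · intro hg
    refine ⟨(mem_comp.1 hg).1, ?_⟩
    rw [← mul_assoc, d.hyp.inv_comp d.many d.mem hg]
    exact inv_mem (mem_comp.1 hg).1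

theorem Dbl.regular (d : Dbl M z s) :
    Function.Bijective (fun x : M => (⟨(x : G) • ((s : G) : G ⧸ normalizer (M : Set G)), fun e => by
        have h1 := (smul_one_eq (H := normalizer (M : Set G)) (x : G)).2 (M_le_norm x.2)
        exact d.s_ne (MulAction.injective (x : G) (e.trans h1.symm))⟩ :
      {p : G ⧸ normalizer (M : Set G) // p ≠ ((1 : G) : G ⧸ normalizer (M : Set G))})) := by
  classical
  haveI := Fintype.ofFinite (G ⧸ normalizer (M : Set G))
  haveI := Fintype.ofFinite M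
  rw [Fintype.bijective_iff_injective_and_card]
  refine ⟨?_, ?_⟩
  · intro x y e
    have e' := congrArg Subtype.val e
    change (((x : G) * s : G) : G ⧸ normalizer (M : Set G)) = (((y : G) * s : G) : G ⧸ normalizer (M : Set G)) at e'
    rw [QuotientGroup.eq] at e'
    have hr : (x : G)⁻¹ * y ∈ M := mul_mem (inv_mem x.2) y.2
    have h1 := d.hyp.pair d.many d.mem (M_le_norm hr) (by
      simpa [mul_assoc, kInv d.mem] using e')
    exact Subtype.ext (inv_mul_eq_one.1 (d.hyp.comp_inf hr h1))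
  · rw [Fintype.card_subtype_compl, Fintype.card_subtype_eq, ← Nat.card_eq_fintype_card,
      ← Nat.card_eq_fintype_card, d.card_points]
    omega

theorem Dbl.exists_smul (d : Dbl M z s) {p : G ⧸ normalizer (M : Set G)}
    (hp : p ≠ ((1 : G) : G ⧸ normalizer (M : Set G))) :
    ∃ x ∈ M, x • ((s : G) : G ⧸ normalizer (M : Set G)) = p := by
  obtain ⟨x, hx⟩ := d.regular.2 ⟨p, hp⟩
  exact ⟨x, x.2, congrArg Subtype.val hx⟩

theorem Dbl.move (d : Dbl M z s) {p q : G ⧸ normalizer (M : Set G)} (hpq : p ≠ q) :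
    ∃ g : G, g • ((1 : G) : G ⧸ normalizer (M : Set G)) = p ∧
      g • ((s : G) : G ⧸ normalizer (M : Set G)) = q := by
  obtain ⟨g, rfl⟩ := QuotientGroup.mk_surjective p
  have hne : g⁻¹ • q ≠ ((1 : G) : G ⧸ normalizer (M : Set G)) := fun e => hpq (by
    rw [inv_smul_eq_iff] at e
    rw [e]
    exact congrArg QuotientGroup.mk (mul_one g).symm)
  obtain ⟨x, hx, e⟩ := d.exists_smul hne
  refine ⟨g * x, ?_, by rw [mul_smul, e, smul_inv_smul]⟩
  rw [mul_smul, (smul_one_eq x).2 (M_le_norm hx)]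
  exact congrArg QuotientGroup.mk (mul_one g)

theorem Dbl.two_trans (d : Dbl M z s) :
    IsMultiplyPretransitive G (G ⧸ normalizer (M : Set G)) 2 := by
  rw [is_two_pretransitive_iff]
  intro a b c e hab hce
  obtain ⟨g1, h1, h2⟩ := d.move hab
  obtain ⟨g2, h3, h4⟩ := d.move hce
  refine ⟨g2 * g1⁻¹, ?_, ?_⟩
  · rw [← h1, mul_smul, inv_smul_smul, h3]
  · rw [← h2, mul_smul, inv_smul_smul, h4]

theorem Dbl.three (d : Dbl M z s) (g : G) {a b c : G ⧸ normalizer (M : Set G)} (hab : a ≠ b)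
    (hbc : b ≠ c) (hac : a ≠ c) (ha : g • a = a) (hb : g • b = b) (hc : g • c = c) : g = 1 := by
  obtain ⟨t, h1, h2⟩ := d.move hab
  set g' := t⁻¹ * g * t with hg'
  have hfix : ∀ p : G ⧸ normalizer (M : Set G), g • (t • p) = t • p → g' • p = p := fun p e => by
    rw [hg', mul_smul, mul_smul, e, inv_smul_smul]
  have hgC : g' ∈ comp M z := by
    rw [← d.pair_stab, mem_inf, mem_stabilizer_iff, mem_stabilizer_iff]
    exact ⟨hfix _ (by rw [h1, ha]), hfix _ (by rw [h2, hb])⟩
  have hne : t⁻¹ • c ≠ ((1 : G) : G ⧸ normalizer (M : Set G)) := fun e => hac (by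
    rw [← h1, ← e, smul_inv_smul])
  obtain ⟨x, hx, e⟩ := d.exists_smul hne
  have hx1 : x ≠ 1 := fun e' => hbc (by
    rw [← h2, ← smul_inv_smul t c, ← e, e', one_smul])
  have hxg : (x⁻¹ * g' * x) • ((s : G) : G ⧸ normalizer (M : Set G)) = (s : G) := by
    rw [mul_smul, mul_smul, e, hfix _ (by rw [smul_inv_smul, hc]), ← e, inv_smul_smul]
  have hgN := (mem_comp.1 hgC).1
  have hxN := M_le_norm hx
  have h3 : x⁻¹ * g' * x ∈ comp M z := by
    rw [← d.pair_stab, mem_inf]
    exact ⟨mem_stabilizer_iff.2 ((smul_one_eq _).2 (mul_mem (mul_mem (inv_mem hxN) hgN) hxN)),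
      mem_stabilizer_iff.2 hxg⟩
  have h4 : x⁻¹ * g' * x = g' :=
    (d.hyp.decomp_unique (x := x⁻¹ * (g' * x * g'⁻¹)) (x' := 1)
      (mul_mem (inv_mem hx) (conj_mem hgN hx)) (one_mem _) hgC h3 (by group)).2.symm
  have h5 : g' * x = x * g' := by
    calc g' * x = x * (x⁻¹ * g' * x) := by group
      _ = x * g' := by rw [h4]
  have h6 := d.hyp.fix_third d.many d.mem hgC hx hx1 h5
  calc g = t * g' * t⁻¹ := by rw [hg']; group
    _ = 1 := by rw [h6]; group

theorem Dbl.odd_card (d : Dbl M z s) : Odd (Nat.card M) ∧ 3 ≤ Nat.card M := by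
  have h1 : Odd (Nat.card M) := by
    rw [← Nat.not_even_iff_odd, even_iff_two_dvd]
    intro h2
    haveI : Fact (Nat.Prime 2) := ⟨Nat.prime_two⟩
    obtain ⟨x, hx⟩ := exists_prime_orderOf_dvd_card' 2 h2
    refine (sq_of_orderOf (t := (x : G)) (by rw [Subgroup.orderOf_coe, hx])).1
      (d.hyp.mem_of_sq_eq_one x.2 (sq_of_orderOf (by rw [Subgroup.orderOf_coe, hx])).2)
  refine ⟨h1, ?_⟩
  have h2 : 1 < Nat.card M := (one_lt_card_iff_ne_bot M).2 d.hyp.ne_bot
  obtain ⟨k, hk⟩ := h1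
  omega

theorem Dbl.faithful (d : Dbl M z s) : FaithfulSMul G (G ⧸ normalizer (M : Set G)) := by
  classical
  haveI := Fintype.ofFinite (G ⧸ normalizer (M : Set G))
  have h3 := d.odd_card.2
  have hc : 2 < Fintype.card (G ⧸ normalizer (M : Set G)) := by
    rw [← Nat.card_eq_fintype_card, d.card_points]; omega
  obtain ⟨a, b, c, hab, hac, hbc⟩ := Fintype.two_lt_card_iff.1 hc
  refine ⟨fun {g g'} e => ?_⟩
  have h : g'⁻¹ * g = 1 := d.three _ hab hbc hac
    (by rw [mul_smul, e, inv_smul_smul]) (by rw [mul_smul, e, inv_smul_smul])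
    (by rw [mul_smul, e, inv_smul_smul])
  exact (inv_mul_eq_one.1 h).symm

theorem Dbl.z_fixes (d : Dbl M z s) :
    z • ((1 : G) : G ⧸ normalizer (M : Set G)) = (1 : G) ∧
      z • ((s : G) : G ⧸ normalizer (M : Set G)) = (s : G) := by
  have h := d.pair_stab ▸ d.hyp.z_mem_comp
  exact ⟨h.1, h.2⟩

theorem Dbl.elementary_case (d : Dbl M z s) (E : Subgroup G) (hEn : E.Normal)
    (htr : IsPretransitive E (G ⧸ normalizer (M : Set G)))
    (hfree : ∀ a : G ⧸ normalizer (M : Set G), stabilizer E a = ⊥) :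
    ∃ (k : ℕ) (E : Subgroup G), 1 ≤ k ∧ E.Normal ∧ Cfsg.IsElementaryAbelian 2 E ∧
      Nat.card E = 2 ^ (2 * k) ∧ E ⊓ normalizer (M : Set G) = ⊥ ∧
      E ⊔ normalizer (M : Set G) = ⊤ ∧
      Nonempty (↥(normalizer (M : Set G)) ≃* DihedralGroup (2 ^ k + 1)) := by
  classical
  set α₀ : G ⧸ normalizer (M : Set G) := ((1 : G) : G ⧸ normalizer (M : Set G)) with hα₀
  set β₀ : G ⧸ normalizer (M : Set G) := ((s : G) : G ⧸ normalizer (M : Set G)) with hβ₀
  have hinj : ∀ e e' : G, e ∈ E → e' ∈ E → e • α₀ = e' • α₀ → e = e' := by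
    intro e e' he he' h1
    have : (⟨e'⁻¹ * e, mul_mem (inv_mem he') he⟩ : E) ∈ stabilizer E α₀ := by
      rw [mem_stabilizer_iff]
      show (e'⁻¹ * e) • α₀ = α₀
      rw [mul_smul, h1, inv_smul_smul]
    rw [hfree, mem_bot] at this
    exact (inv_mul_eq_one.1 (congrArg Subtype.val this)).symm
  have hsur : ∀ p, ∃ e ∈ E, e • α₀ = p := fun p => by
    obtain ⟨e, he⟩ := htr.exists_smul_eq α₀ p
    exact ⟨e, e.2, he⟩
  have hcard : Nat.card E = Nat.card M + 1 := by
    rw [← d.card_points]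
    exact Nat.card_congr (Equiv.ofBijective (fun e : E => (e : G) • α₀)
      ⟨fun a b h => Subtype.ext (hinj _ _ a.2 b.2 h), fun p => by
        obtain ⟨e, he, h⟩ := hsur p; exact ⟨⟨e, he⟩, h⟩⟩)
  have hbot : E ⊓ normalizer (M : Set G) = ⊥ := by
    rw [eq_bot_iff]
    rintro g ⟨hgE, hgN⟩
    rw [mem_bot]
    refine hinj g 1 hgE (one_mem _) ?_
    rw [one_smul, hα₀]
    exact (smul_one_eq g).2 hgN
  have htop : E ⊔ normalizer (M : Set G) = ⊤ := by
    rw [eq_top_iff]
    intro g _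
    obtain ⟨e, he, h1⟩ := hsur (g • α₀)
    have h2 : e⁻¹ * g ∈ normalizer (M : Set G) := by
      rw [← smul_one_eq (H := normalizer (M : Set G)), ← hα₀, mul_smul, ← h1, inv_smul_smul]
    have := mul_mem_sup he h2
    simpa using this
  obtain ⟨eb, heb, heb'⟩ := hsur β₀
  have hzfix := d.z_fixes
  rw [← hα₀, ← hβ₀] at hzfix
  have hconj : ∀ g e : G, g • α₀ = α₀ → (g * e * g⁻¹) • α₀ = g • (e • α₀) := fun g e hg => by
    conv_lhs => rw [mul_smul, mul_smul, show g⁻¹ • α₀ = α₀ from inv_smul_eq_iff.2 hg.symm]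
  -- only `1` and `eb` commute with `z`
  have hfix : ∀ e ∈ E, z * e * z⁻¹ = e → e = 1 ∨ e = eb := by
    intro e he hze
    by_contra hcon
    push Not at hcon
    refine d.hyp.z_ne (d.three z (Ne.symm d.s_ne) ?_ ?_ hzfix.1 hzfix.2 (c := e • α₀) ?_)
    · intro h
      exact hcon.2 (hinj e eb he heb (by rw [heb']; exact h.symm))
    · intro h
      exact hcon.1 (hinj e 1 he (one_mem _) (by rw [one_smul]; exact h.symm))
    · rw [← hconj z e hzfix.1, hze]
  -- all nontrivial elements are conjugate to `eb`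
  have hM : ∀ e ∈ E, e ≠ 1 → ∃ x ∈ M, x * eb * x⁻¹ = e := by
    intro e he he1
    have hne : e • α₀ ≠ α₀ := fun h => he1 (hinj e 1 he (one_mem _) (by rwa [one_smul]))
    obtain ⟨x, hx, h1⟩ := d.exists_smul hne
    refine ⟨x, hx, hinj _ _ (hEn.conj_mem _ heb x) he ?_⟩
    rw [hconj x eb ((smul_one_eq x).2 (M_le_norm hx)), heb', h1]
  obtain ⟨hModd, h3⟩ := d.odd_card
  have heb2 : eb * eb = 1 := by
    haveI : Fact (Nat.Prime 2) := ⟨Nat.prime_two⟩
    obtain ⟨e, he⟩ := exists_prime_orderOf_dvd_card' 2 (G := E) (by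
      rw [hcard, ← even_iff_two_dvd]; exact hModd.add_one)
    obtain ⟨h1, h2⟩ := sq_of_orderOf (t := (e : G)) (by rw [Subgroup.orderOf_coe, he])
    obtain ⟨x, -, hx⟩ := hM e e.2 h1
    rw [← hx] at h2
    calc eb * eb = x⁻¹ * (x * eb * x⁻¹ * (x * eb * x⁻¹)) * x := by group
      _ = 1 := by rw [h2]; group
  have hsq : ∀ e ∈ E, e * e = 1 := by
    intro e he
    by_cases he1 : e = 1
    · rw [he1, mul_one]
    obtain ⟨x, -, rfl⟩ := hM e he he1
    calc x * eb * x⁻¹ * (x * eb * x⁻¹) = x * (eb * eb) * x⁻¹ := by group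
      _ = 1 := by rw [heb2]; group
  have hei : ∀ e ∈ E, e⁻¹ = e := fun e he => inv_eq_of_mul_eq_one_right (hsq e he)
  have hcomm : ∀ a ∈ E, ∀ b ∈ E, a * b = b * a := by
    intro a ha b hb
    rw [← hei _ (mul_mem ha hb), mul_inv_rev, hei a ha, hei b hb]
  have hzE : ∀ e ∈ E, z * e * z⁻¹ ∈ E := fun e he => hEn.conj_mem _ he z
  -- `|E| ≤ 4`
  have hle : Nat.card E ≤ 2 * 2 := by
    haveI := Fintype.ofFinite E
    rw [Nat.card_eq_fintype_card, ← Finset.card_univ]
    have hf : ∀ e ∈ (Finset.univ : Finset E), z * (e : G) * z⁻¹ * e ∈ ({1, eb} : Finset G) := by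
      intro e _
      have h := hfix _ (mul_mem (hzE e e.2) e.2) ?_
      · simpa using h
      · have hz1 := d.hyp.z_inv
        calc z * (z * (e : G) * z⁻¹ * e) * z⁻¹ = z * z * (e : G) * z⁻¹ * (e * z⁻¹) := by group
          _ = (e : G) * (z * e * z⁻¹) := by rw [d.hyp.z_sq, hz1]; group
          _ = z * (e : G) * z⁻¹ * e := hcomm _ e.2 _ (hzE e e.2)
    refine (Finset.card_le_mul_card_image_of_maps_to hf 2 ?_).trans
      (Nat.mul_le_mul_left 2 Finset.card_le_two)
    intro v _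
    by_contra hc
    push Not at hc
    obtain ⟨a, b, c, ha, hb, hc', hab, hac, hbc⟩ := Finset.two_lt_card_iff.1 hc
    simp only [Finset.mem_filter, Finset.mem_univ, true_and] at ha hb hc'
    have key : ∀ x y : E, z * (x : G) * z⁻¹ * x = v → z * (y : G) * z⁻¹ * y = v → x ≠ y →
        (x : G) * y = eb := by
      intro x y hx hy hxy
      have h1 : z * (x : G) * z⁻¹ * (z * (y : G) * z⁻¹) = (x : G) * y := by
        calc z * (x : G) * z⁻¹ * (z * (y : G) * z⁻¹)
            = (z * (x : G) * z⁻¹ * x) * ((x : G)⁻¹ * (z * (y : G) * z⁻¹ * y) * (y : G)⁻¹) := by group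
          _ = v * (x : G)⁻¹ * v * (y : G)⁻¹ := by rw [hx, hy]; group
          _ = x * y := by
            have hv : v ∈ E := hx ▸ mul_mem (hzE x x.2) x.2
            rw [hcomm v hv _ (inv_mem x.2), mul_assoc _ v v, hsq v hv, mul_one, hei _ x.2,
              hei _ y.2]
      refine (hfix _ (mul_mem x.2 y.2) ?_).resolve_left ?_
      · calc z * ((x : G) * y) * z⁻¹ = z * (x : G) * z⁻¹ * (z * (y : G) * z⁻¹) := by group
          _ = x * y := h1
      · intro h
        exact hxy (Subtype.ext ((eq_inv_of_mul_eq_one_left h).trans (hei _ y.2)))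
    exact hbc (Subtype.ext (mul_left_cancel ((key a b ha hb hab).trans (key a c ha hc' hac).symm)))
  have hm3 : Nat.card M = 3 := by omega
  -- the complement has order two
  have hc2 : Nat.card (comp M z) ≤ 2 := by
    haveI := Fintype.ofFinite (G ⧸ normalizer (M : Set G))
    have h4 : Fintype.card (G ⧸ normalizer (M : Set G)) = 4 := by
      rw [← Nat.card_eq_fintype_card, d.card_points, hm3]
    obtain ⟨γ, hγ⟩ : ∃ γ, γ ∉ ({α₀, β₀} : Finset (G ⧸ normalizer (M : Set G))) := by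
      by_contra hcon
      push Not at hcon
      have := Finset.card_le_card (s := Finset.univ) (fun p _ => hcon p)
      rw [Finset.card_univ, h4] at this
      have := this.trans Finset.card_le_two
      omega
    simp only [Finset.mem_insert, Finset.mem_singleton, not_or] at hγ
    have hfixC : ∀ c : comp M z, (c : G) • α₀ = α₀ ∧ (c : G) • β₀ = β₀ := fun c => by
      have h : (c : G) ∈ stabilizer G α₀ ⊓ stabilizer G β₀ := by
        rw [hα₀, hβ₀, d.pair_stab]; exact c.2
      exact ⟨h.1, h.2⟩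
    have hmem : ∀ c : comp M z, (c : G) • γ ≠ α₀ ∧ (c : G) • γ ≠ β₀ := fun c =>
      ⟨fun e => hγ.1 (MulAction.injective (c : G) (e.trans (hfixC c).1.symm)),
       fun e => hγ.2 (MulAction.injective (c : G) (e.trans (hfixC c).2.symm))⟩
    refine (Nat.card_le_card_of_injective (fun c : comp M z =>
      (⟨(c : G) • γ, hmem c⟩ : {p : G ⧸ normalizer (M : Set G) // p ≠ α₀ ∧ p ≠ β₀})) ?_).trans ?_
    · intro c c' e
      have e' : (c : G) • γ = (c' : G) • γ := congrArg Subtype.val e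
      refine Subtype.ext (inv_mul_eq_one.1 (d.three ((c' : G)⁻¹ * c) (Ne.symm d.s_ne) (Ne.symm hγ.2)
        (Ne.symm hγ.1) ?_ ?_ ?_)).symm
      · rw [← hα₀, mul_smul, (hfixC c).1, inv_smul_eq_iff, (hfixC c').1]
      · rw [← hβ₀, mul_smul, (hfixC c).2, inv_smul_eq_iff, (hfixC c').2]
      · rw [mul_smul, e', inv_smul_smul]
    · rw [Nat.card_eq_fintype_card, Fintype.card_subtype]
      have h5 : (Finset.univ.filter fun p => p ≠ α₀ ∧ p ≠ β₀) =
          (Finset.univ : Finset (G ⧸ normalizer (M : Set G))) \ {α₀, β₀} := by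
        ext p; simp
      rw [h5, Finset.card_sdiff_of_subset (Finset.subset_univ _), Finset.card_univ, h4,
        Finset.card_pair (Ne.symm d.s_ne)]
  have hc2' : Nat.card (comp M z) = 2 := by
    have h1 : comp M z ≠ ⊥ := fun h => d.hyp.z_ne (mem_bot.1 (h ▸ d.hyp.z_mem_comp))
    have := (one_lt_card_iff_ne_bot _).2 h1
    omega
  refine ⟨1, E, le_rfl, hEn, ⟨⟨⟨fun a b => Subtype.ext (hcomm _ a.2 _ b.2)⟩⟩,
    fun e he => by rw [pow_two]; exact hsq e he⟩, by rw [hcard, hm3]; norm_num, hbot, htop, ?_⟩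
  haveI : Fact (Nat.Prime 3) := ⟨Nat.prime_three⟩
  obtain ⟨r, hr⟩ := exists_prime_orderOf_dvd_card' 3 (G := M) (by rw [hm3])
  have hr' : orderOf (r : G) = 3 := by rw [Subgroup.orderOf_coe, hr]
  refine Suborbit.dihedral_of_inverts _ ⟨r, M_le_norm r.2⟩ ⟨z, d.hyp.z_mem⟩ ?_ ?_ ?_ ?_ ?_
  · rw [d.hyp.card_norm, hm3, hc2']; norm_num
  · rw [← Subgroup.orderOf_coe]; simpa using hr'
  · exact Subtype.ext d.hyp.z_sq
  · rintro ⟨k, hk⟩
    have hzM : z ∈ M := by
      rw [← show ((⟨r, M_le_norm r.2⟩ : normalizer (M : Set G)) ^ k : normalizer (M : Set G)).1 = z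
        from congrArg Subtype.val hk]
      simpa using zpow_mem r.2 k
    exact d.hyp.z_ne (d.hyp.mem_of_sq_eq_one hzM d.hyp.z_sq)
  · exact Subtype.ext (d.hyp.z_inverts r.2)

/-- The recognition in the doubly transitive case. -/
theorem Dbl.main (d : Dbl M z s) :
    (∃ (F : Type) (_ : Field F) (_ : Fintype F) (p : ℕ) (_ : Fact p.Prime) (_ : CharP F p),
        Fintype.card F = Nat.card M ∧ Cfsg.IsElementaryAbelian p M ∧
        (Nonempty (G ≃* (GL (Fin 2) F ⧸ Subgroup.center (GL (Fin 2) F))) ∨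
         (Fintype.card F % 4 = 1 ∧ Nonempty (G ≃* Matrix.ProjectiveSpecialLinearGroup (Fin 2) F)))) ∨
    (∃ (k : ℕ) (E : Subgroup G), 1 ≤ k ∧ E.Normal ∧ Cfsg.IsElementaryAbelian 2 E ∧
      Nat.card E = 2 ^ (2 * k) ∧ E ⊓ normalizer (M : Set G) = ⊥ ∧
      E ⊔ normalizer (M : Set G) = ⊤ ∧
      Nonempty (↥(normalizer (M : Set G)) ≃* DihedralGroup (2 ^ k + 1))) := by
  classical
  by_cases hreg : ∃ E : Subgroup G, E.Normal ∧ IsPretransitive E (G ⧸ normalizer (M : Set G)) ∧
      ∀ a : G ⧸ normalizer (M : Set G), stabilizer E a = ⊥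
  · obtain ⟨E, hEn, htr, hfree⟩ := hreg
    exact Or.inr (d.elementary_case E hEn htr hfree)
  refine Or.inl ?_
  haveI := d.faithful
  haveI := Fintype.ofFinite (G ⧸ normalizer (M : Set G))
  have hz := d.z_fixes
  have hab : ((1 : G) : G ⧸ normalizer (M : Set G)) ≠ ((s : G) : G ⧸ normalizer (M : Set G)) :=
    Ne.symm d.s_ne
  have hZ : Cfsg.IsZassenhausGroup G (G ⧸ normalizer (M : Set G)) := by
    refine ⟨d.faithful, d.two_trans, fun g a b c h1 h2 h3 h4 h5 h6 => d.three g h1 h2 h3 h4 h5 h6,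
      ⟨z, d.hyp.z_ne, _, _, hab, hz.1, hz.2⟩, fun N hN htr => ?_⟩
    by_contra hcon
    push Not at hcon
    exact hreg ⟨N, hN, htr, hcon⟩
  have hNstab : stabilizer G ((1 : G) : G ⧸ normalizer (M : Set G)) = normalizer (M : Set G) := by
    ext g
    rw [mem_stabilizer_iff, smul_one_eq]
  have hle : M ≤ stabilizer G ((1 : G) : G ⧸ normalizer (M : Set G)) := by
    rw [hNstab]; exact M_le_norm
  have hn : (M.subgroupOf (stabilizer G ((1 : G) : G ⧸ normalizer (M : Set G)))).Normal := by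
    refine ⟨fun x hx g => ?_⟩
    rw [mem_subgroupOf] at hx ⊢
    have hg : (g : G) ∈ normalizer (M : Set G) := hNstab.le g.2
    simpa using conj_mem hg hx
  have hrg : ∀ p q : G ⧸ normalizer (M : Set G), p ≠ ((1 : G) : G ⧸ normalizer (M : Set G)) →
      q ≠ ((1 : G) : G ⧸ normalizer (M : Set G)) → ∃! u : M, (u : G) • p = q := by
    intro p q hp hq
    obtain ⟨x, hx, e1⟩ := d.exists_smul hp
    obtain ⟨y, hy, e2⟩ := d.exists_smul hq
    refine ⟨⟨y * x⁻¹, mul_mem hy (inv_mem hx)⟩, ?_, ?_⟩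
    · show (y * x⁻¹) • p = q
      rw [← e1, mul_smul, inv_smul_smul, e2]
    · intro v hv
      have h : (⟨(v : G) * x, mul_mem v.2 hx⟩ : M) = ⟨y, hy⟩ := d.regular.1 (Subtype.ext (by
        show ((v : G) * x) • ((s : G) : G ⧸ normalizer (M : Set G)) = y • _
        rw [mul_smul, e1, e2]
        exact hv))
      refine Subtype.ext ?_
      show (v : G) = y * x⁻¹
      have h' : (v : G) * x = y := congrArg Subtype.val h
      rw [← h', mul_inv_cancel_right]
  obtain ⟨hodd, h3⟩ := d.odd_card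
  have hΩ : Fintype.card (G ⧸ normalizer (M : Set G)) = Nat.card M + 1 := by
    rw [← Nat.card_eq_fintype_card, d.card_points]
  have heven : Even (Nat.card ↥(comp M z)) := by
    rw [even_iff_two_dvd]
    have := orderOf_dvd_natCard (⟨z, d.hyp.z_mem_comp⟩ : comp M z)
    rwa [← Subgroup.orderOf_coe, orderOf_eq_two d.hyp.z_ne d.hyp.z_sq] at this
  have hd := Zass.two_mul_card_of_even hZ hab (by rw [d.pair_stab]; exact heven)
  obtain ⟨-, p, f, hp, hexp, hpf⟩ := Zass.kernel_elementary hZ hab hd M hle hn hrg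
  have hm : Nat.card M = p ^ f := by omega
  have hf : f ≠ 0 := fun h => by rw [h, pow_zero] at hm; omega
  haveI := Fact.mk hp
  have hel : Cfsg.IsElementaryAbelian p M :=
    ⟨⟨⟨fun a b => Subtype.ext (d.hyp.comm a.2 b.2)⟩⟩, hexp⟩
  obtain ⟨k, hk⟩ := Zass.card_pair_dvd_sub_two hZ hab
  rw [d.pair_stab] at hk hd
  have hk' : k = 1 ∨ k = 2 := by
    have hpos : 0 < Nat.card (comp M z) := Nat.card_pos
    rcases k with - | - | - | k
    · omega
    · exact Or.inl rfl
    · exact Or.inr rfl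
    · exfalso; nlinarith
  rcases hk' with rfl | rfl
  · obtain ⟨h3t, hsharp⟩ := Zass.sharply_of_full hZ hab (by rw [d.pair_stab]; omega)
    haveI : Fintype (GaloisField p f) := Fintype.ofFinite _
    have hFc : Nat.card (GaloisField p f) = p ^ f := GaloisField.card p f hf
    refine ⟨GaloisField p f, inferInstance, inferInstance, p, inferInstance, inferInstance,
      by rw [← Nat.card_eq_fintype_card, hFc, hm], hel, Or.inl ?_⟩
    have hc3 : 2 < Fintype.card (G ⧸ normalizer (M : Set G)) := by omega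
    obtain ⟨γ, hγ⟩ : ∃ γ, γ ∉ ({((1 : G) : G ⧸ normalizer (M : Set G)), ((s : G) : G ⧸ normalizer (M : Set G))} :
        Finset (G ⧸ normalizer (M : Set G))) := by
      by_contra hcon
      push Not at hcon
      have := (Finset.card_le_card (s := Finset.univ) fun p _ => hcon p).trans Finset.card_le_two
      rw [Finset.card_univ] at this
      omega
    simp only [Finset.mem_insert, Finset.mem_singleton, not_or] at hγ
    obtain ⟨t, hta, htb, htc⟩ := SharplyThree.exists_swap h3t hab (Ne.symm hγ.1) (Ne.symm hγ.2)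
    have hs1 : s • ((1 : G) : G ⧸ normalizer (M : Set G)) = (s : G) :=
      congrArg QuotientGroup.mk (mul_one s)
    have hs2 : s • ((s : G) : G ⧸ normalizer (M : Set G)) = (1 : G) :=
      congrArg QuotientGroup.mk d.mem.1.2.1
    have hts : t * s ∈ comp M z := by
      rw [← d.pair_stab]
      exact ⟨by show (t * s) • _ = _; rw [mul_smul, hs1, htb],
        by show (t * s) • _ = _; rw [mul_smul, hs2, hta]⟩
    refine SharplyThree.nonempty_mulEquiv_pgl h3t hsharp hab (Ne.symm hγ.1) (Ne.symm hγ.2) hta htb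
      htc ?_ (GaloisField p f) (by rw [hFc, hΩ, hm])
    intro g hg
    rw [d.pair_stab] at hg
    have e1 := d.hyp.inv_comp d.many d.mem hg
    have e2 := d.hyp.comp_comm d.many d.mem hts (inv_mem hg)
    have e3 : t = t * s * s := by rw [mul_assoc, d.mem.1.2.1, mul_one]
    calc t * g * t⁻¹ = t * s * (s * g * s) * (t * s)⁻¹ := by
          conv_lhs => rw [e3]
          rw [mul_inv_rev, kInv d.mem]
          group
      _ = g⁻¹ := by rw [e1, e2, mul_inv_cancel_right]
  · obtain ⟨hFcard, hFfix⟩ := Zass.kernel_of_regular hle hrg (Ne.symm hab)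
    obtain ⟨K, i1, i2, -, hKc, -, he⟩ := Zass.half_psl hZ hab M hle hFcard hFfix hel.1
      (by rw [d.pair_stab]; omega)
    have hcard : Fintype.card K = p ^ f := by omega
    haveI : CharP K p := charP_of_card_eq_prime_pow hcard
    refine ⟨K, i1, i2, p, inferInstance, inferInstance, by omega, hel, Or.inr ⟨?_, he⟩⟩
    obtain ⟨j, hj⟩ := heven
    omega

end CfsgLib.TIMany
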