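import Cfsg.Agent.TIMany.Elem
import Cfsg.Agent.TIMany.Double
import Cfsg.Agent.Classical.LinearOrder
import Cfsg.Agent.S0799

/-!
# The case `PSL(2, 2^e)`
-/

set_option autoImplicit false
set_option linter.unusedSectionVars false
set_option linter.style.haveILetI false

open Subgroup MulAction

namespace CfsgLib.TIMany

universe u

variable {G : Type u} [Group G] [Finite G] {M : Subgroup G} {z : G}

local notation "Ω[" z "]" => G ⧸ normalizer ((centralizer ({z} : Set G) : Subgroup G) : Set G)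

/-- Everything that is used about the case in which all involutions are conjugate to `z`. -/
structure Lin (M : Subgroup G) (z : G) (n : ℕ) : Prop where
  elem : Elem M z
  two_le : 2 ≤ n
  card_q : Nat.card (centralizer ({z} : Set G)) = 2 * 2 ^ n
  card_k : Nat.card (kSet M z) + 2 = 2 * 2 ^ n
  card_m : Nat.card M = 2 * 2 ^ n + 1
  all : Nat.card (jSet M z) = Nat.card (kSet M z)

variable {n : ℕ}

theorem Lin.conj_all (d : Lin M z n) {u : G} (h1 : u ≠ 1) (h2 : u * u = 1) : IsConj z u := by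
  have hJK : jSet M z = kSet M z := Set.eq_of_subset_of_ncard_le (fun s hs => hs.1)
    (by rw [← Nat.card_coe_set_eq, ← Nat.card_coe_set_eq, d.all]) (Set.toFinite _)
  have h := d.elem.hyp
  by_cases hN : u ∈ normalizer (M : Set G)
  · obtain ⟨x, hx, rfl⟩ := h.invol_norm h1 h2 hN
    obtain ⟨y, -, hy⟩ := h.exists_conj_z hx
    exact isConj_iff.2 ⟨y, hy⟩
  · obtain ⟨y, -, s, hs, rfl⟩ := h.exists_kSet d.elem.many ⟨h1, h2, hN⟩
    rw [← hJK] at hs
    exact hs.2.trans (isConj_iff.2 ⟨y, rfl⟩)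

theorem Lin.cent_eq (d : Lin M z n) {u : G} (hu : u ∈ centralizer ({z} : Set G)) (h1 : u ≠ 1) :
    centralizer ({u} : Set G) = centralizer ({z} : Set G) := by
  have hc := d.conj_all h1 (d.elem.cent_sq hu)
  have hcard : Nat.card (centralizer ({u} : Set G)) = Nat.card (centralizer ({z} : Set G)) := by
    have e1 := card_conj u
    have e2 := card_conj z
    have e3 : Nat.card {g : G // IsConj u g} = Nat.card {g : G // IsConj z g} :=
      Nat.card_congr (Equiv.subtypeEquivRight fun g => ⟨fun hg => hc.trans hg, fun hg => hc.symm.trans hg⟩)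
    rw [e3, ← e2] at e1
    refine Nat.eq_of_mul_eq_mul_left ?_ e1
    haveI : Nonempty {g : G // IsConj z g} := ⟨⟨z, IsConj.refl z⟩⟩
    exact Nat.card_pos
  refine (eq_of_le_of_card_ge (fun y hy => mem_centralizer_singleton_iff.2 ?_) hcard.le).symm
  exact d.elem.cent_comm hy hu

theorem Lin.mem_norm (d : Lin M z n) {g u w : G} (hu : u ∈ centralizer ({z} : Set G)) (hu1 : u ≠ 1)
    (hw : w ∈ centralizer ({z} : Set G)) (e : g * w * g⁻¹ = u) :
    g ∈ normalizer ((centralizer ({z} : Set G) : Subgroup G) : Set G) := by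
  have hw1 : w ≠ 1 := fun hh => hu1 (by rw [← e, hh]; group)
  rw [mem_normalizer_iff]
  intro y
  constructor
  · intro hy
    rw [← d.cent_eq hw hw1, mem_centralizer_singleton_iff] at hy
    rw [← d.cent_eq hu hu1, mem_centralizer_singleton_iff, ← e]
    calc g * y * g⁻¹ * (g * w * g⁻¹) = g * (y * w) * g⁻¹ := by group
      _ = g * (w * y) * g⁻¹ := by rw [hy]
      _ = g * w * g⁻¹ * (g * y * g⁻¹) := by group
  · intro hy
    rw [← d.cent_eq hu hu1, mem_centralizer_singleton_iff, ← e] at hy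
    rw [← d.cent_eq hw hw1, mem_centralizer_singleton_iff]
    calc y * w = g⁻¹ * (g * y * g⁻¹ * (g * w * g⁻¹)) * g := by group
      _ = g⁻¹ * (g * w * g⁻¹ * (g * y * g⁻¹)) * g := by rw [hy]
      _ = w * y := by group

theorem Lin.card_group (d : Lin M z n) :
    Nat.card G = (2 * 2 ^ n + 1) * ((2 * 2 ^ n) * (2 * 2 ^ n - 1)) := by
  rw [d.elem.hyp.card_group d.elem.many, d.elem.card_comp, d.card_m]
  congr 1
  have := d.card_k
  generalize 2 ^ n = r at this ⊢
  generalize Nat.card (kSet M z) = k at this ⊢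
  obtain ⟨r, rfl⟩ : ∃ r', r = r' + 1 := ⟨r - 1, by omega⟩
  obtain rfl : k = 2 * r := by omega
  rw [show 2 * (r + 1) - 1 = 2 * r + 1 by omega]
  ring

theorem Lin.card_norm (d : Lin M z n) :
    Nat.card (normalizer ((centralizer ({z} : Set G) : Subgroup G) : Set G)) =
      (2 * 2 ^ n) * (2 * 2 ^ n - 1) := by
  set Q := centralizer ({z} : Set G) with hQ
  set N₂ := normalizer (Q : Set G) with hN₂
  have hzQ : z ∈ Q := mem_centralizer_singleton_iff.2 rfl
  have hle : Q ≤ N₂ := le_normalizer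
  have e1 := card_conj (⟨z, hle hzQ⟩ : N₂)
  have hcl : Nat.card {g : N₂ // IsConj (⟨z, hle hzQ⟩ : N₂) g} = 2 * 2 ^ n - 1 := by
    have h1 : Nat.card {u : Q // u ≠ 1} = 2 * 2 ^ n - 1 := by
      classical
      haveI := Fintype.ofFinite Q
      rw [Nat.card_eq_fintype_card, Fintype.card_subtype_compl, Fintype.card_subtype_eq,
        ← Nat.card_eq_fintype_card, d.card_q]
    rw [← h1]
    have hmem : ∀ g : {g : N₂ // IsConj (⟨z, hle hzQ⟩ : N₂) g}, (g.1 : G) ∈ Q ∧ (g.1 : G) ≠ 1 := by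
      rintro ⟨g, hg⟩
      obtain ⟨a, rfl⟩ := isConj_iff.1 hg
      exact ⟨(mem_normalizer_iff.1 a.2 z).1 hzQ,
        fun hh => d.elem.hyp.z_ne (conj_eq_one_iff.1 hh)⟩
    refine Nat.card_congr (Equiv.ofBijective (fun g => (⟨⟨_, (hmem g).1⟩, fun hh =>
      (hmem g).2 (congrArg Subtype.val hh)⟩ : {u : Q // u ≠ 1})) ⟨?_, ?_⟩)
    · intro a b hab
      exact Subtype.ext (Subtype.ext (congrArg (fun w : {u : Q // u ≠ 1} => (w.1 : G)) hab))
    · rintro ⟨⟨u, hu⟩, hu1⟩
      have hu1' : u ≠ 1 := fun hh => hu1 (Subtype.ext hh)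
      obtain ⟨a, ha⟩ := isConj_iff.1 (d.conj_all hu1' (d.elem.cent_sq hu))
      refine ⟨⟨⟨u, hle hu⟩, isConj_iff.2 ⟨⟨a, d.mem_norm hu hu1' hzQ ha⟩, Subtype.ext ha⟩⟩, rfl⟩
  have hcz : Nat.card (centralizer ({(⟨z, hle hzQ⟩ : N₂)} : Set N₂)) = 2 * 2 ^ n := by
    rw [← d.card_q]
    refine Nat.card_congr (Equiv.ofBijective (fun g => (⟨((g.1 : N₂) : G), ?_⟩ : Q)) ⟨?_, ?_⟩)
    · exact mem_centralizer_singleton_iff.2 (congrArg Subtype.val (mem_centralizer_singleton_iff.1 g.2))
    · intro a b hab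
      exact Subtype.ext (Subtype.ext (congrArg (fun w : Q => (w : G)) hab))
    · rintro ⟨u, hu⟩
      exact ⟨⟨⟨u, hle hu⟩, mem_centralizer_singleton_iff.2 (Subtype.ext
        (mem_centralizer_singleton_iff.1 hu))⟩, rfl⟩
  rw [← e1, hcl, hcz, mul_comm]

theorem Lin.card_points (d : Lin M z n) : Nat.card Ω[z] = 2 * 2 ^ n + 1 := by
  have h1 := d.card_group
  rw [card_eq_card_quotient_mul_card_subgroup
    (normalizer ((centralizer ({z} : Set G) : Subgroup G) : Set G)), d.card_norm] at h1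
  refine Nat.eq_of_mul_eq_mul_right ?_ h1
  have : 1 ≤ 2 ^ n := Nat.one_le_two_pow
  exact Nat.mul_pos (by omega) (by omega)

theorem Lin.invol_mem (d : Lin M z n) {w : G} (h2 : w * w = 1)
    (hw : w ∈ normalizer ((centralizer ({z} : Set G) : Subgroup G) : Set G)) :
    w ∈ centralizer ({z} : Set G) := by
  have hzQ : z ∈ centralizer ({z} : Set G) := mem_centralizer_singleton_iff.2 rfl
  have hwi : w⁻¹ = w := inv_eq_of_mul_eq_one_right h2
  have hwz : w * z * w ∈ centralizer ({z} : Set G) := by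
    have := (mem_normalizer_iff.1 hw z).1 hzQ
    rwa [hwi] at this
  by_cases hv : z * (w * z * w) = 1
  · refine mem_centralizer_singleton_iff.2 ?_
    have e1 : w * z * w = z := by
      rw [mul_eq_one_iff_eq_inv', d.elem.hyp.z_inv] at hv
      exact hv
    calc w * z = w * z * w * w := by rw [mul_assoc _ w w, h2, mul_one]
      _ = z * w := by rw [e1]
  · rw [← d.cent_eq (mul_mem hzQ hwz) hv, mem_centralizer_singleton_iff]
    calc w * (z * (w * z * w)) = w * z * w * z * w := by group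
      _ = z * (w * z * w) * w := by rw [d.elem.cent_comm hwz hzQ]

theorem Lin.free (d : Lin M z n) {u : G} (hu : u ∈ centralizer ({z} : Set G)) (hu1 : u ≠ 1)
    {p : Ω[z]} (hp : u • p = p) :
    p = ((1 : G) : Ω[z]) := by
  obtain ⟨g, rfl⟩ := QuotientGroup.mk_surjective p
  rw [smul_mk_eq] at hp
  have h2 : g⁻¹ * (u * g) * (g⁻¹ * (u * g)) = 1 := by
    calc g⁻¹ * (u * g) * (g⁻¹ * (u * g)) = g⁻¹ * (u * u) * g := by group
      _ = 1 := by rw [d.elem.cent_sq hu]; group
  have hg := d.mem_norm hu hu1 (d.invol_mem h2 hp) (g := g) (by group)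
  rw [QuotientGroup.eq, mul_one]
  exact inv_mem hg

theorem Lin.points (d : Lin M z n) : ∃ b : Ω[z], b ≠ ((1 : G) : Ω[z]) ∧
    (∀ p, p ≠ ((1 : G) : Ω[z]) → ∃ u ∈ centralizer ({z} : Set G), u • b = p) := by
  classical
  haveI := Fintype.ofFinite Ω[z]
  haveI := Fintype.ofFinite (centralizer ({z} : Set G))
  have hcard : Fintype.card Ω[z] = 2 * 2 ^ n + 1 := by
    rw [← Nat.card_eq_fintype_card, d.card_points]
  have h1 : 1 ≤ 2 ^ n := Nat.one_le_two_pow
  obtain ⟨b, hb⟩ := Fintype.exists_ne_of_one_lt_card (by omega) ((1 : G) : Ω[z])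
  refine ⟨b, hb, ?_⟩
  have hfix : ∀ u : centralizer ({z} : Set G), (u : G) • ((1 : G) : Ω[z]) = (1 : G) := fun u =>
    (smul_one_eq _).2 (le_normalizer u.2)
  have hbij : Function.Bijective (fun u : centralizer ({z} : Set G) =>
      (⟨(u : G) • b, fun e => hb (MulAction.injective (u : G) (e.trans (hfix u).symm))⟩ :
        {p : Ω[z] // p ≠ ((1 : G) : Ω[z])})) := by
    rw [Fintype.bijective_iff_injective_and_card]
    refine ⟨fun u v e => ?_, ?_⟩
    · by_contra hne
      refine hb (d.free (mul_mem (inv_mem v.2) u.2) (fun hh => hne (Subtype.ext ?_)) ?_)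
      · exact (inv_mul_eq_one.1 hh).symm
      · rw [mul_smul, show (u : G) • b = (v : G) • b from congrArg Subtype.val e, inv_smul_smul]
    · rw [Fintype.card_subtype_compl, Fintype.card_subtype_eq, hcard, ← Nat.card_eq_fintype_card,
        d.card_q]
      omega
  intro p hp
  obtain ⟨u, hu⟩ := hbij.2 ⟨p, hp⟩
  exact ⟨u, u.2, congrArg Subtype.val hu⟩

theorem Lin.sharp (d : Lin M z n) :
    FaithfulSMul G Ω[z] ∧ IsMultiplyPretransitive G Ω[z] 3 ∧
      ∀ t : Fin 3 ↪ Ω[z], stabilizer G t = ⊥ := by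
  classical
  haveI := Fintype.ofFinite Ω[z]
  obtain ⟨b, hb, hreg⟩ := d.points
  set α₀ : Ω[z] := ((1 : G) : Ω[z]) with hα
  have hfix : ∀ u ∈ centralizer ({z} : Set G), u • α₀ = α₀ := fun u hu => by
    rw [hα]; exact (smul_one_eq _).2 (le_normalizer hu)
  have move : ∀ {p q : Ω[z]}, p ≠ q → ∃ g : G, g • α₀ = p ∧ g • b = q := by
    intro p q hpq
    obtain ⟨g, rfl⟩ := QuotientGroup.mk_surjective p
    have hg : g • α₀ = (g : Ω[z]) := congrArg QuotientGroup.mk (mul_one g)
    have hne : g⁻¹ • q ≠ α₀ := fun e => hpq (by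
      rw [inv_smul_eq_iff, hg] at e
      exact e.symm)
    obtain ⟨u, hu, e⟩ := hreg _ hne
    exact ⟨g * u, by rw [mul_smul, hfix u hu, hg], by rw [mul_smul, e, smul_inv_smul]⟩
  have htwo : IsMultiplyPretransitive G Ω[z] 2 := by
    rw [is_two_pretransitive_iff]
    intro a b' c e hab hce
    obtain ⟨g1, h1, h2⟩ := move hab
    obtain ⟨g2, h3, h4⟩ := move hce
    refine ⟨g2 * g1⁻¹, ?_, ?_⟩
    · rw [← h1, mul_smul, inv_smul_smul, h3]
    · rw [← h2, mul_smul, inv_smul_smul, h4]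
  have hpair : ∀ g : G, g • α₀ = α₀ → g • b = b → g ∈ centralizer ({z} : Set G) → g = 1 := by
    intro g _ h2 hgQ
    by_contra hne
    exact hb (d.free hgQ hne h2)
  have hN : ∀ g : G, g • α₀ = α₀ → g ∈ normalizer ((centralizer ({z} : Set G) : Subgroup G) : Set G) :=
    fun g hg => (smul_one_eq g).1 hg
  have hconjQ : ∀ g : G, g • α₀ = α₀ → ∀ u ∈ centralizer ({z} : Set G),
      g * u * g⁻¹ ∈ centralizer ({z} : Set G) := fun g hg u hu => (mem_normalizer_iff.1 (hN g hg) u).1 hu
  have three : ∀ (g : G) (a b' c : Ω[z]), a ≠ b' → b' ≠ c → a ≠ c → g • a = a → g • b' = b' →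
      g • c = c → g = 1 := by
    intro g a b' c hab hbc hac ha hb' hc
    obtain ⟨t, h1, h2⟩ := move hab
    have key : ∀ p : Ω[z], g • (t • p) = t • p → (t⁻¹ * g * t) • p = p := fun p e => by
      rw [mul_smul, mul_smul, e, inv_smul_smul]
    have g1 := key α₀ (by rw [h1, ha])
    have g2 := key b (by rw [h2, hb'])
    have hne : t⁻¹ • c ≠ α₀ := fun e => hac (by rw [← h1, ← e, smul_inv_smul])
    obtain ⟨u, hu, e⟩ := hreg _ hne
    have hu1 : u ≠ 1 := fun e' => hbc (by
      rw [← h2, ← smul_inv_smul t c, ← e, e', one_smul])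
    have g3 : (t⁻¹ * g * t) • (u • b) = u • b := by rw [e]; exact key _ (by rw [smul_inv_smul, hc])
    set g' := t⁻¹ * g * t with hg'
    have hginv : g'⁻¹ • α₀ = α₀ := inv_smul_eq_iff.2 g1.symm
    have hw : g'⁻¹ * u⁻¹ * g' * u ∈ centralizer ({z} : Set G) := by
      refine mul_mem ?_ hu
      have := hconjQ g'⁻¹ hginv u⁻¹ (inv_mem hu)
      rwa [inv_inv] at this
    have hw1 := hpair _ (hfix _ hw) (by
      rw [mul_smul, mul_smul, mul_smul, g3, inv_smul_smul]
      exact inv_smul_eq_iff.2 g2.symm) hw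
    have hcomm : g' * u = u * g' := by
      calc g' * u = u * g' * (g'⁻¹ * u⁻¹ * g' * u) := by group
        _ = u * g' := by rw [hw1, mul_one]
    have hg'Q : g' ∈ centralizer ({z} : Set G) := by
      rw [← d.cent_eq hu hu1]
      exact mem_centralizer_singleton_iff.2 hcomm
    have h6 := hpair g' g1 g2 hg'Q
    calc g = t * g' * t⁻¹ := by rw [hg']; group
      _ = 1 := by rw [h6]; group
  have hΩ : Fintype.card Ω[z] = 2 * 2 ^ n + 1 := by
    rw [← Nat.card_eq_fintype_card, d.card_points]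
  have hn4 : 4 ≤ 2 ^ n := by
    calc 4 = 2 ^ 2 := by norm_num
      _ ≤ 2 ^ n := Nat.pow_le_pow_right (by norm_num) d.two_le
  obtain ⟨p₁, p₂, p₃, h12, h13, h23⟩ :=
    Fintype.two_lt_card_iff.1 (show 2 < Fintype.card Ω[z] by omega)
  have hfaith : FaithfulSMul G Ω[z] := ⟨fun {g g'} e => by
    have h : g'⁻¹ * g = 1 := three _ p₁ p₂ p₃ h12 h23 h13
      (by rw [mul_smul, e, inv_smul_smul]) (by rw [mul_smul, e, inv_smul_smul])
      (by rw [mul_smul, e, inv_smul_smul])
    exact (inv_mul_eq_one.1 h).symm⟩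
  -- the stabilizer of two points
  have hD : Nat.card ↥(stabilizer G α₀ ⊓ stabilizer G b) = 2 * 2 ^ n - 1 := by
    have hbij : Function.Bijective (fun p : centralizer ({z} : Set G) × ↥(stabilizer G α₀ ⊓ stabilizer G b) =>
        (⟨(p.1 : G) * p.2, mul_mem (le_normalizer p.1.2) (hN _ p.2.2.1)⟩ :
          normalizer ((centralizer ({z} : Set G) : Subgroup G) : Set G))) := by
      refine ⟨?_, ?_⟩
      · rintro ⟨a, x⟩ ⟨a', x'⟩ e
        have e' : (a : G) * x = a' * x' := congrArg Subtype.val e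
        have e1 : (a' : G)⁻¹ * a = x' * (x : G)⁻¹ := by
          calc (a' : G)⁻¹ * a = (a' : G)⁻¹ * ((a : G) * x) * (x : G)⁻¹ := by group
            _ = x' * (x : G)⁻¹ := by rw [e']; group
        have hm : (x' : G) * (x : G)⁻¹ ∈ stabilizer G α₀ ⊓ stabilizer G b :=
          mul_mem x'.2 (inv_mem x.2)
        have h1 := hpair _ hm.1 hm.2 (e1 ▸ mul_mem (inv_mem a'.2) a.2)
        have hx : x' = x := Subtype.ext (mul_inv_eq_one.1 h1)
        subst hx
        exact Prod.ext (Subtype.ext (mul_right_cancel e')) rfl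
      · rintro ⟨g, hg⟩
        have hgb : g • b ≠ α₀ := fun e => hb (MulAction.injective g
          (e.trans (((smul_one_eq g).2 hg : g • α₀ = α₀)).symm))
        obtain ⟨u, hu, e⟩ := hreg _ hgb
        refine ⟨⟨⟨u, hu⟩, ⟨u⁻¹ * g, ?_, ?_⟩⟩, Subtype.ext (mul_inv_cancel_left u g)⟩
        · show (u⁻¹ * g) • α₀ = α₀
          rw [mul_smul, (smul_one_eq g).2 hg, hfix _ (inv_mem hu)]
        · show (u⁻¹ * g) • b = b
          rw [mul_smul, ← e, inv_smul_smul]
    have h1 := Nat.card_congr (Equiv.ofBijective _ hbij)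
    rw [Nat.card_prod, d.card_q, d.card_norm] at h1
    exact Nat.eq_of_mul_eq_mul_left (by omega) h1
  have hZ : Cfsg.IsZassenhausGroup G Ω[z] := by
    refine ⟨hfaith, htwo, three, ?_, fun N hNn htr => ?_⟩
    · have hne : stabilizer G α₀ ⊓ stabilizer G b ≠ ⊥ := fun hh => by
        rw [hh, card_bot] at hD; omega
      obtain ⟨g, hg, hg1⟩ := (bot_or_exists_ne_one _).resolve_left hne
      exact ⟨g, hg1, α₀, b, Ne.symm hb, hg.1, hg.2⟩
    · by_contra hcon
      push Not at hcon
      have hfree : ∀ u ∈ centralizer ({z} : Set G), u ≠ 1 → ∀ e ∈ N, u * e * u⁻¹ = e → e = 1 := by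
        intro u hu hu1 e he hue
        have h1 : u • (e • α₀) = e • α₀ := by
          have h2 : (u * e * u⁻¹) • α₀ = u • (e • α₀) := by
            rw [mul_smul, mul_smul, inv_smul_eq_iff.2 (hfix u hu).symm]
          rw [← h2, hue]
        have h3 : (⟨e, he⟩ : N) ∈ stabilizer N α₀ := by
          rw [mem_stabilizer_iff]
          exact d.free hu hu1 h1
        exact congrArg Subtype.val (mem_bot.1 ((hcon α₀).le h3))
      have hinv : ∀ u ∈ centralizer ({z} : Set G), u ≠ 1 → ∀ e ∈ N, u * e * u⁻¹ = e⁻¹ := by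
        intro u hu hu1 e he
        let f : N → N := fun a => ⟨(a : G)⁻¹ * (u * a * u⁻¹), mul_mem (inv_mem a.2) (hNn.conj_mem _ a.2 u)⟩
        have hf : Function.Injective f := by
          intro x y hxy
          have e' : (x : G)⁻¹ * (u * x * u⁻¹) = (y : G)⁻¹ * (u * y * u⁻¹) := congrArg Subtype.val hxy
          have h1 : u * ((y : G) * (x : G)⁻¹) * u⁻¹ = (y : G) * (x : G)⁻¹ := by
            have e2 : u * y * u⁻¹ = (y : G) * (x : G)⁻¹ * (u * x * u⁻¹) := by
              rw [mul_assoc (y : G), e']; group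
            calc u * ((y : G) * (x : G)⁻¹) * u⁻¹ = u * y * u⁻¹ * (u * x * u⁻¹)⁻¹ := by group
              _ = (y : G) * (x : G)⁻¹ := by rw [e2]; group
          have h2 := hfree u hu hu1 _ (mul_mem y.2 (inv_mem x.2)) h1
          exact Subtype.ext (mul_inv_eq_one.1 h2).symm
        obtain ⟨a, ha⟩ := (Finite.injective_iff_surjective.1 hf) ⟨e, he⟩
        have h1 : (a : G)⁻¹ * (u * a * u⁻¹) = e := congrArg Subtype.val ha
        have hu2 := d.elem.cent_sq hu
        rw [← h1]
        calc u * ((a : G)⁻¹ * (u * a * u⁻¹)) * u⁻¹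
            = (u * a * u⁻¹)⁻¹ * (u * u * a * (u * u)⁻¹) := by group
          _ = ((a : G)⁻¹ * (u * a * u⁻¹))⁻¹ := by rw [hu2]; simp [mul_assoc]
      obtain ⟨⟨e, he⟩, heb⟩ := htr.exists_smul_eq α₀ b
      have heb' : e • α₀ = b := heb
      have hzQ : z ∈ centralizer ({z} : Set G) := mem_centralizer_singleton_iff.2 rfl
      obtain ⟨a, ha, -, -, -⟩ := d.elem.witness
      have haQ : a ∈ centralizer ({z} : Set G) := mem_centralizer_singleton_iff.2 ha.2
      have hza : z * a ≠ 1 := fun hh => ha.1.2.2 (by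
        rw [eq_inv_of_mul_eq_one_right hh, d.elem.hyp.z_inv]
        exact d.elem.hyp.z_mem)
      have h4 : z * a * e * (z * a)⁻¹ = e := by
        calc z * a * e * (z * a)⁻¹ = z * (a * e * a⁻¹) * z⁻¹ := by group
          _ = e := by
            rw [hinv a haQ ha.1.1 e he, hinv z hzQ d.elem.hyp.z_ne _ (inv_mem he), inv_inv]
      have h5 := hfree _ (mul_mem hzQ haQ) hza e he h4
      rw [h5, one_smul] at heb'
      exact hb heb'.symm
  exact ⟨hfaith, Zass.sharply_of_full hZ (Ne.symm hb) (by rw [hD]; omega)⟩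

theorem Lin.equiv_pgl (d : Lin M z n) :
    Nonempty (G ≃* Matrix.ProjGenLinGroup (Fin 2) (GaloisField 2 (n + 1))) := by
  classical
  obtain ⟨hfaith, h3, hsharp⟩ := d.sharp
  haveI := hfaith
  haveI := Fintype.ofFinite Ω[z]
  have hΩ : Fintype.card Ω[z] = 2 * 2 ^ n + 1 := by
    rw [← Nat.card_eq_fintype_card, d.card_points]
  have hodd : Odd (Fintype.card Ω[z]) := ⟨2 ^ n, by omega⟩
  have h1 : 1 ≤ 2 ^ n := Nat.one_le_two_pow
  obtain ⟨a, b, c, hab, hac, hbc⟩ := Fintype.two_lt_card_iff.1 (show 2 < Fintype.card Ω[z] by omega)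
  obtain ⟨s, hsa, hsb, hsc⟩ := SharplyThree.exists_swap h3 hab hac hbc
  have hs2 := SharplyThree.swap_sq hsharp hab hac hbc hsa hsb hsc
  let σ : ↥(stabilizer G a ⊓ stabilizer G b) →* ↥(stabilizer G a ⊓ stabilizer G b) :=
    MonoidHom.mk' (fun h => ⟨s * h * s⁻¹, SharplyThree.conj_mem_pair hsa hsb hs2 h.2⟩)
      (fun x y => Subtype.ext (by
        show s * ((x : G) * y) * s⁻¹ = s * x * s⁻¹ * (s * y * s⁻¹)
        group))
  have hinv := SharplyThree.inv_of_fixed_free σ (fun h => Subtype.ext (by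
      show s * (s * h * s⁻¹) * s⁻¹ = h
      rw [inv_eq_of_mul_eq_one_right hs2, ← mul_assoc, ← mul_assoc, hs2, one_mul, mul_assoc, hs2, mul_one]))
    (fun h hh => Subtype.ext (SharplyThree.centralizer_trivial hodd hsharp hab hac hbc hsa
      hsb hsc h.2 (congrArg Subtype.val hh)))
  have hFc : Nat.card (GaloisField 2 (n + 1)) = 2 ^ (n + 1) := GaloisField.card 2 _ (by omega)
  exact SharplyThree.nonempty_mulEquiv_pgl h3 hsharp hab hac hbc hsa hsb hsc
    (fun h hh => congrArg Subtype.val (hinv ⟨h, hh⟩)) (GaloisField 2 (n + 1))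
    (by rw [hFc, hΩ, pow_succ, mul_comm])

/-- `PSL₂` over any finite field has an involution. -/
theorem exists_involution_psl (K : Type*) [Field K] :
    ∃ x : Matrix.ProjectiveSpecialLinearGroup (Fin 2) K, x ≠ 1 ∧ x * x = 1 := by
  let w : Matrix.SpecialLinearGroup (Fin 2) K :=
    ⟨!![0, 1; -1, 0], by simp [Matrix.det_fin_two]⟩
  refine ⟨QuotientGroup.mk' _ w, ?_, ?_⟩
  · intro h
    rw [QuotientGroup.mk'_apply, QuotientGroup.eq_one_iff,
      Matrix.SpecialLinearGroup.mem_center_iff] at h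
    obtain ⟨r, -, hr⟩ := h
    have := congrFun (congrFun hr 0) 1
    simp [w] at this
  · rw [← map_mul, QuotientGroup.mk'_apply, QuotientGroup.eq_one_iff,
      Matrix.SpecialLinearGroup.mem_center_iff]
    refine ⟨-1, by simp, ?_⟩
    show Matrix.scalar (Fin 2) (-1 : K) = (!![0, 1; -1, 0] : Matrix (Fin 2) (Fin 2) K) * !![0, 1; -1, 0]
    ext i j
    fin_cases i <;> fin_cases j <;> simp [Matrix.mul_apply, Fin.sum_univ_two]

theorem Lin.main (d : Lin M z n) :
    ∃ (F : Type) (_ : Field F) (_ : Fintype F) (e : ℕ), 1 < e ∧ Fintype.card F = 2 ^ e ∧ IsCyclic ↥M ∧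
      Nat.card M = 2 ^ e + 1 ∧ Nonempty (G ≃* Matrix.ProjectiveSpecialLinearGroup (Fin 2) F) := by
  classical
  haveI : Fintype (GaloisField 2 (n + 1)) := Fintype.ofFinite _
  have hFc : Nat.card (GaloisField 2 (n + 1)) = 2 ^ (n + 1) := GaloisField.card 2 _ (by omega)
  have hFc' : Fintype.card (GaloisField 2 (n + 1)) = 2 ^ (n + 1) := by
    rw [← Nat.card_eq_fintype_card, hFc]
  have hm : Nat.card M = 2 ^ (n + 1) + 1 := by rw [d.card_m, pow_succ, mul_comm]
  obtain ⟨e1⟩ := d.equiv_pgl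
  haveI : Finite (Matrix.ProjGenLinGroup (Fin 2) (GaloisField 2 (n + 1))) :=
    Finite.of_equiv _ e1.toEquiv
  have h1 : 1 ≤ 2 ^ n := Nat.one_le_two_pow
  have hcards : Nat.card (Matrix.ProjectiveSpecialLinearGroup (Fin 2) (GaloisField 2 (n + 1))) =
      Nat.card (Matrix.ProjGenLinGroup (Fin 2) (GaloisField 2 (n + 1))) := by
    have h := CfsgLib.Linear.gcd_mul_card_PSL (ι := Fin 2) (F := GaloisField 2 (n + 1))
    rw [CfsgLib.Linear.card_PGL, ← h]
    have hg : Nat.gcd (Fintype.card (Fin 2)) (Nat.card (GaloisField 2 (n + 1)) - 1) = 1 := by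
      rw [Fintype.card_fin, hFc]
      refine Nat.coprime_two_left.2 ⟨2 ^ n - 1, ?_⟩
      rw [pow_succ]; omega
    rw [hg, one_mul]
  let e2 : Matrix.ProjectiveSpecialLinearGroup (Fin 2) (GaloisField 2 (n + 1)) ≃*
      Matrix.ProjGenLinGroup (Fin 2) (GaloisField 2 (n + 1)) :=
    MulEquiv.ofBijective Matrix.ProjectiveSpecialLinearGroup.toPGL
      (Matrix.ProjectiveSpecialLinearGroup.toPGL_injective.bijective_of_nat_card_le hcards.ge)
  let e := e1.trans e2.symm
  refine ⟨GaloisField 2 (n + 1), inferInstance, inferInstance, n + 1, by have := d.two_le; omega,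
    hFc', ?_, hm, ⟨e⟩⟩
  -- cyclicity
  set H := M.map e.toMonoidHom with hH
  let eM : M ≃* H := M.equivMapOfInjective e.toMonoidHom e.injective
  have hHcard : Nat.card H = 2 ^ (n + 1) + 1 := by rw [← Nat.card_congr eM.toEquiv, hm]
  have hodd : Odd (Nat.card H) := ⟨2 ^ n, by rw [hHcard, pow_succ]; omega⟩
  have hnoinv : ∀ x : H, x * x = 1 → x = 1 := fun x hx => by
    have h2 : orderOf x ∣ 2 := orderOf_dvd_of_pow_eq_one (by rw [pow_two, hx])
    rcases (Nat.dvd_prime Nat.prime_two).1 h2 with h | h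
    · exact orderOf_eq_one_iff.1 h
    · have hh : orderOf x ∣ Nat.card H := _root_.orderOf_dvd_natCard x
      rw [h] at hh
      exact absurd (even_iff_two_dvd.2 hh) (Nat.not_even_iff_odd.2 hodd)
  haveI : Fact (Nat.Prime 2) := ⟨Nat.prime_two⟩
  rcases Cfsg.Agent.S0799.result hFc' 2 H with ⟨k, -, h | h⟩ | ⟨P, K, hK, ⟨eK⟩⟩ | ⟨⟨e'⟩⟩ | ⟨⟨e'⟩⟩ |
    ⟨⟨e'⟩⟩ | ⟨K, i1, i2, m, -, h⟩
  · haveI := h.1
    exact isCyclic_of_surjective eM.symm.toMonoidHom eM.symm.surjective
  · obtain ⟨e'⟩ := h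
    exfalso
    have := hnoinv (e'.symm (DihedralGroup.sr 0)) (by
      rw [← map_mul, show (DihedralGroup.sr 0 : DihedralGroup k) * DihedralGroup.sr 0 = 1 from
        DihedralGroup.sr_mul_self 0, map_one])
    have h' := congrArg e' this
    rw [MulEquiv.apply_symm_apply, map_one, DihedralGroup.one_def] at h'
    cases h'
  · exfalso
    let f := e.symm.toMonoidHom
    have hPi : ¬ 2 ∣ ((P : Subgroup _).map f).index := by
      rw [Subgroup.index_map_of_bijective (show Function.Bijective f from e.symm.bijective)]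
      exact P.not_dvd_index
    let T : Sylow 2 G := (P.isPGroup'.map f).toSylow hPi
    have hQi : ¬ 2 ∣ (centralizer ({z} : Set G)).index := by
      have h2 := (centralizer ({z} : Set G)).card_mul_index
      rw [d.card_q, d.card_group] at h2
      have h3 : (centralizer ({z} : Set G)).index = (2 * 2 ^ n + 1) * (2 * 2 ^ n - 1) := by
        refine Nat.eq_of_mul_eq_mul_left (show 0 < 2 * 2 ^ n by omega) ?_
        rw [h2]; ring
      rw [h3]
      intro h4
      rcases Nat.prime_two.dvd_mul.1 h4 with h | h <;> omega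
    have hQ : IsPGroup 2 (centralizer ({z} : Set G)) :=
      IsPGroup.of_card (n := n + 1) (by rw [d.card_q, pow_succ, mul_comm])
    obtain ⟨g, hg⟩ := MulAction.exists_smul_eq G T (hQ.toSylow hQi)
    have hg' : (((P : Subgroup _).map f).map (MulAut.conj g).toMonoidHom) = centralizer ({z} : Set G) :=
      congrArg (fun S : Sylow 2 G => (S : Subgroup G)) hg
    have hle : (K.map f).map (MulAut.conj g).toMonoidHom ≤
        normalizer ((centralizer ({z} : Set G) : Subgroup G) : Set G) :=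
      (map_mono ((map_mono hK).trans (le_normalizer_map f))).trans
        ((le_normalizer_map _).trans (by rw [← hg']))
    have hdvd := card_dvd_of_le hle
    rw [card_map_of_injective (MulAut.conj g).injective, card_map_of_injective e.symm.injective,
      ← Nat.card_congr eK.toEquiv, hHcard, d.card_norm] at hdvd
    have hc : Nat.Coprime (2 ^ (n + 1) + 1) (2 * 2 ^ n) := by
      rw [pow_succ, mul_comm]
      exact (Nat.coprime_self_add_left.2 (Nat.coprime_one_left _))
    have h5 := hc.dvd_of_dvd_mul_left hdvd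
    have h6 := Nat.le_of_dvd (by omega) h5
    rw [pow_succ] at h6
    omega
  · exfalso
    have := Nat.card_congr e'.toEquiv
    rw [nat_card_alternatingGroup, Nat.card_fin] at this
    rw [this] at hodd
    exact absurd hodd (by decide)
  · exfalso
    have := Nat.card_congr e'.toEquiv
    rw [Nat.card_perm, Nat.card_fin] at this
    rw [this] at hodd
    exact absurd hodd (by decide)
  · exfalso
    have := Nat.card_congr e'.toEquiv
    rw [nat_card_alternatingGroup, Nat.card_fin] at this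
    rw [this] at hodd
    exact absurd hodd (by decide)
  · exfalso
    obtain ⟨x, hx1, hx2⟩ := exists_involution_psl K
    rcases h with ⟨⟨e'⟩⟩ | ⟨⟨e'⟩⟩
    · have := hnoinv (e'.symm x) (by rw [← map_mul, hx2, map_one])
      exact hx1 (by simpa using congrArg e' this)
    · have := hnoinv (e'.symm (Matrix.ProjectiveSpecialLinearGroup.toPGL x))
        (by rw [← map_mul, ← map_mul, hx2, map_one, map_one])
      exact hx1 (Matrix.ProjectiveSpecialLinearGroup.toPGL_injective
        (by rw [map_one]; simpa using congrArg e' this))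

end CfsgLib.TIMany
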