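import Cfsg.Agent.TIMany.Local

/-!
# The case of an elementary abelian involution centralizer
-/

set_option autoImplicit false
set_option linter.unusedSectionVars false
set_option linter.style.haveILetI false

open Subgroup

namespace CfsgLib.TIMany

variable {G : Type*} [Group G] [Finite G] {M : Subgroup G} {z : G}

theorem Hyp.odd_card (h : Hyp M z) : Odd (Nat.card M) := by
  rw [← Nat.not_even_iff_odd, even_iff_two_dvd]
  intro h2
  haveI : Fact (Nat.Prime 2) := ⟨Nat.prime_two⟩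
  obtain ⟨x, hx⟩ := exists_prime_orderOf_dvd_card' 2 h2
  refine (sq_of_orderOf (t := (x : G)) (by rw [Subgroup.orderOf_coe, hx])).1
    (h.mem_of_sq_eq_one x.2 (sq_of_orderOf (by rw [Subgroup.orderOf_coe, hx])).2)

theorem Hyp.one_lt_card (h : Hyp M z) : 1 < Nat.card M := (one_lt_card_iff_ne_bot M).2 h.ne_bot

theorem card_conj (x : G) :
    Nat.card {g : G // IsConj x g} * Nat.card (centralizer ({x} : Set G)) = Nat.card G := by
  rw [card_eq_card_quotient_mul_card_subgroup (centralizer ({x} : Set G))]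
  congr 1
  refine (Nat.card_congr (Equiv.ofBijective (fun q : G ⧸ centralizer ({x} : Set G) =>
    (Quotient.liftOn' q (fun g => (⟨g * x * g⁻¹, isConj_iff.2 ⟨g, rfl⟩⟩ : {g : G // IsConj x g})) ?_))
    ⟨?_, ?_⟩)).symm
  · intro a b hab
    rw [QuotientGroup.leftRel_apply, mem_centralizer_singleton_iff] at hab
    refine Subtype.ext ?_
    calc a * x * a⁻¹ = a * (x * (a⁻¹ * b)) * b⁻¹ := by group
      _ = a * (a⁻¹ * b * x) * b⁻¹ := by rw [hab]
      _ = b * x * b⁻¹ := by group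
  · intro p q
    induction p using Quotient.inductionOn' with
    | h a =>
      induction q using Quotient.inductionOn' with
      | h b =>
        intro e
        have e' : a * x * a⁻¹ = b * x * b⁻¹ := congrArg Subtype.val e
        refine QuotientGroup.eq.2 (mem_centralizer_singleton_iff.2 ?_)
        calc a⁻¹ * b * x = a⁻¹ * (b * x * b⁻¹) * b := by group
          _ = x * (a⁻¹ * b) := by rw [← e']; group
  · rintro ⟨g, hg⟩
    obtain ⟨a, rfl⟩ := isConj_iff.1 hg
    exact ⟨(a : G ⧸ centralizer ({x} : Set G)), rfl⟩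

/-- The data of the elementary abelian case: two outside involutions of `C(z)` with outside product. -/
structure Elem (M : Subgroup G) (z : G) : Prop where
  hyp : Hyp M z
  many : M.index < Nat.card {g : G // orderOf g = 2}
  witness : ∃ a ∈ kSet M z, ∃ b ∈ kSet M z, a * b ∈ kSet M z

theorem Elem.comp_eq (e : Elem M z) {c : G} (hc : c ∈ comp M z) : c = 1 ∨ c = z := by
  obtain ⟨a, ha, b, hb, hab⟩ := e.witness
  refine e.hyp.comp_invol hc (mul_eq_one_iff_eq_inv.2 ?_)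
  have e1 := e.hyp.inv_comp e.many ha hc
  have e2 := e.hyp.inv_comp e.many hb hc
  have e3 := e.hyp.inv_comp e.many hab hc
  have e4 : a * b = b * a := by
    rw [← kInv hab, mul_inv_rev, kInv ha, kInv hb]
  have e5 : a * (b * c * b) * a = c := by
    rw [e2, e.hyp.inv_comp e.many ha (inv_mem hc), inv_inv]
  rw [← e3]
  calc c = a * (b * c * b) * a := e5.symm
    _ = a * b * c * (b * a) := by group
    _ = a * b * c * (a * b) := by rw [e4]

theorem Elem.card_comp (e : Elem M z) : Nat.card (comp M z) = 2 := by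
  rw [Nat.card_eq_two_iff]
  refine ⟨1, ⟨z, e.hyp.z_mem_comp⟩, fun h => e.hyp.z_ne (congrArg Subtype.val h).symm, ?_⟩
  rw [Set.eq_univ_iff_forall]
  rintro ⟨c, hc⟩
  rcases e.comp_eq hc with rfl | rfl
  · exact Or.inl rfl
  · exact Or.inr rfl

theorem Elem.cent_cases (e : Elem M z) {g : G} (hg : g * z = z * g) :
    g ∈ comp M z ∨ g ∈ kSet M z := by
  by_cases hN : g ∈ normalizer (M : Set G)
  · exact Or.inl (mem_comp.2 ⟨hN, hg⟩)
  · exact Or.inr (e.hyp.mem_kSet_of_comm e.many hN hg)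

theorem Elem.cent_sq (e : Elem M z) {g : G} (hg : g ∈ centralizer ({z} : Set G)) : g * g = 1 := by
  rcases e.cent_cases (mem_centralizer_singleton_iff.1 hg) with h | h
  · rcases e.comp_eq h with rfl | rfl
    · exact mul_one 1
    · exact e.hyp.z_sq
  · exact h.1.2.1

theorem Elem.cent_comm (e : Elem M z) {g g' : G} (hg : g ∈ centralizer ({z} : Set G))
    (hg' : g' ∈ centralizer ({z} : Set G)) : g * g' = g' * g := by
  rw [← inv_eq_of_mul_eq_one_right (e.cent_sq (mul_mem hg hg')), mul_inv_rev,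
    inv_eq_of_mul_eq_one_right (e.cent_sq hg), inv_eq_of_mul_eq_one_right (e.cent_sq hg')]

theorem Elem.card_cent (e : Elem M z) :
    Nat.card (centralizer ({z} : Set G)) = Nat.card (kSet M z) + 2 := by
  rw [← e.card_comp, ← Nat.card_sum]
  refine (Nat.card_congr (Equiv.ofBijective (Sum.elim
    (fun s : kSet M z => (⟨s, mem_centralizer_singleton_iff.2 s.2.2⟩ : centralizer ({z} : Set G)))
    (fun c : comp M z => ⟨c, mem_centralizer_singleton_iff.2 (mem_comp.1 c.2).2⟩)) ⟨?_, ?_⟩)).symm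
  · rintro (s | c) (s' | c') h <;> simp only [Sum.elim_inl, Sum.elim_inr, Subtype.mk.injEq] at h
    · exact congrArg Sum.inl (Subtype.ext h)
    · exact absurd (h ▸ (mem_comp.1 c'.2).1) s.2.1.2.2
    · exact absurd (h ▸ (mem_comp.1 c.2).1) s'.2.1.2.2
    · exact congrArg Sum.inr (Subtype.ext h)
  · rintro ⟨g, hg⟩
    rcases e.cent_cases (mem_centralizer_singleton_iff.1 hg) with h | h
    · exact ⟨Sum.inr ⟨g, h⟩, rfl⟩
    · exact ⟨Sum.inl ⟨g, h⟩, rfl⟩

theorem Elem.three_le_kSet (e : Elem M z) : 3 ≤ Nat.card (kSet M z) := by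
  obtain ⟨a, ha, b, hb, hab⟩ := e.witness
  have h1 : a ≠ b := fun h => hab.1.1 (by rw [← h]; exact ha.1.2.1)
  have h2 : a ≠ a * b := fun h => hb.1.1 (mul_left_cancel (show a * b = a * 1 by rw [← h, mul_one]))
  have h3 : b ≠ a * b := fun h => ha.1.1 (mul_right_cancel (show a * b = 1 * b by rw [← h, one_mul]))
  have hinj : Function.Injective (![⟨a, ha⟩, ⟨b, hb⟩, ⟨a * b, hab⟩] : Fin 3 → kSet M z) := by
    intro i j h
    fin_cases i <;> fin_cases j <;>
      simp_all [Subtype.ext_iff, h1.symm, h2.symm, h3.symm]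
  simpa using Nat.card_le_card_of_injective _ hinj

theorem Elem.exists_pow (e : Elem M z) :
    ∃ n : ℕ, 3 ≤ n ∧ Nat.card (centralizer ({z} : Set G)) = 2 ^ n := by
  haveI : Fact (Nat.Prime 2) := ⟨Nat.prime_two⟩
  have h2 : IsPGroup 2 (centralizer ({z} : Set G)) := fun g =>
    ⟨1, Subtype.ext (by rw [pow_one, pow_two]; exact e.cent_sq g.2)⟩
  obtain ⟨n, hn⟩ := IsPGroup.iff_card.1 h2
  refine ⟨n, ?_, hn⟩
  by_contra hc
  have h4 : 2 ^ n ≤ 2 ^ 2 := Nat.pow_le_pow_right (by norm_num) (by omega)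
  have := e.three_le_kSet
  rw [← hn, e.card_cent] at h4
  omega

/-- The outside involutions of `C(z)` conjugate to `z`. -/
def jSet (M : Subgroup G) (z : G) : Set G := {s | s ∈ kSet M z ∧ IsConj z s}

theorem Elem.class_card (e : Elem M z) :
    Nat.card {g : G // IsConj z g} = Nat.card M * (1 + Nat.card (jSet M z)) := by
  have h := e.hyp
  rw [mul_add, mul_one, ← Nat.card_prod, ← Nat.card_sum]
  have hA : ∀ x : M, IsConj z ((x : G) * z) := fun x => by
    obtain ⟨y, -, hy⟩ := h.exists_conj_z x.2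
    exact isConj_iff.2 ⟨y, hy⟩
  have hB : ∀ p : M × jSet M z, IsConj z ((p.1 : G) * p.2 * (p.1 : G)⁻¹) := fun p =>
    p.2.2.2.trans (isConj_iff.2 ⟨p.1, rfl⟩)
  refine (Nat.card_congr (Equiv.ofBijective (Sum.elim
    (fun x : M => (⟨_, hA x⟩ : {g : G // IsConj z g}))
    (fun p : M × jSet M z => ⟨_, hB p⟩)) ⟨?_, ?_⟩)).symm
  · rintro (x | p) (x' | p') hh <;> simp only [Sum.elim_inl, Sum.elim_inr, Subtype.mk.injEq] at hh
    · exact congrArg Sum.inl (Subtype.ext (mul_right_cancel hh))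
    · exact absurd (hh ▸ mul_mem (M_le_norm x.2) h.z_mem) (conj_outInv p'.2.2.1.1 (M_le_norm p'.1.2)).2.2
    · exact absurd (hh ▸ mul_mem (M_le_norm x'.2) h.z_mem) (conj_outInv p.2.2.1.1 (M_le_norm p.1.2)).2.2
    · obtain ⟨e1, e2⟩ := h.kConj_inj p.1.2 p'.1.2 p.2.2.1 p'.2.2.1 hh
      exact congrArg Sum.inr (Prod.ext (Subtype.ext e1) (Subtype.ext e2))
  · rintro ⟨g, hg⟩
    obtain ⟨a, rfl⟩ := isConj_iff.1 hg
    have h1 : a * z * a⁻¹ ≠ 1 := fun hh => h.z_ne (conj_eq_one_iff.1 hh)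
    have h2 : a * z * a⁻¹ * (a * z * a⁻¹) = 1 := by
      calc a * z * a⁻¹ * (a * z * a⁻¹) = a * (z * z) * a⁻¹ := by group
        _ = 1 := by rw [h.z_sq]; group
    by_cases hN : a * z * a⁻¹ ∈ normalizer (M : Set G)
    · obtain ⟨x, hx, e'⟩ := h.invol_norm h1 h2 hN
      exact ⟨Sum.inl ⟨x, hx⟩, Subtype.ext e'.symm⟩
    · obtain ⟨y, hy, s, hs, e'⟩ := h.exists_kSet e.many ⟨h1, h2, hN⟩
      have hsc : IsConj z s := hg.trans (by
        rw [e']; exact (isConj_iff.2 ⟨y, rfl⟩).symm)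
      exact ⟨Sum.inr (⟨y, hy⟩, ⟨s, hs, hsc⟩), Subtype.ext e'.symm⟩

/-- The two possibilities for the order of `M`. -/
theorem Elem.cases (e : Elem M z) :
    ∃ n : ℕ, 2 ≤ n ∧ Nat.card (centralizer ({z} : Set G)) = 2 * 2 ^ n ∧
      Nat.card (kSet M z) + 2 = 2 * 2 ^ n ∧
      ((Nat.card M = 2 ^ n + 1 ∧ Nat.card (jSet M z) + 1 = 2 ^ n) ∨
       (Nat.card M = 2 * 2 ^ n + 1 ∧ Nat.card (jSet M z) = Nat.card (kSet M z))) := by
  obtain ⟨n, hn, hq⟩ := e.exists_pow
  obtain ⟨n, rfl⟩ : ∃ n', n = n' + 1 := ⟨n - 1, by omega⟩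
  rw [pow_succ, mul_comm] at hq
  refine ⟨n, by omega, hq, by rw [← e.card_cent, hq], ?_⟩
  have hg := e.hyp.card_group e.many
  rw [e.card_comp, ← card_conj z, e.class_card, hq, mul_assoc] at hg
  have h1 := Nat.eq_of_mul_eq_mul_left Nat.card_pos hg
  have hkc := e.card_cent
  rw [hq] at hkc
  have hjk : Nat.card (jSet M z) ≤ Nat.card (kSet M z) :=
    Nat.card_mono (Set.toFinite _) fun s hs => hs.1
  have hm := e.hyp.one_lt_card
  have hr : 4 ≤ 2 ^ n := by
    calc 4 = 2 ^ 2 := by norm_num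
      _ ≤ 2 ^ n := Nat.pow_le_pow_right (by norm_num) (by omega)
  generalize 2 ^ n = r at h1 hkc hr ⊢
  generalize Nat.card M = m at h1 hm ⊢
  generalize Nat.card (jSet M z) = j at h1 hjk ⊢
  generalize Nat.card (kSet M z) = k at h1 hkc hjk ⊢
  -- `m - 1 = r a`, `j = a (r - 1)`
  obtain ⟨r, rfl⟩ : ∃ r', r = r' + 1 := ⟨r - 1, by omega⟩
  have hk : k = 2 * r := by omega
  subst hk
  have h2 : (r + 1) * (1 + j) = r * m + 1 := by
    have : (1 + j) * (2 * (r + 1)) = 2 * (r * m + 1) := by rw [h1]; ring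
    nlinarith
  obtain ⟨m, rfl⟩ : ∃ m', m = m' + 1 := ⟨m - 1, by omega⟩
  have h3 : j ≤ m := by nlinarith
  obtain ⟨a, rfl⟩ : ∃ a, m = j + a := ⟨m - j, by omega⟩
  have h4 : j = r * a := by nlinarith
  subst h4
  have ha : a ≤ 2 := by nlinarith
  interval_cases a
  · simp at hm
  · exact Or.inl ⟨by ring, by ring⟩
  · exact Or.inr ⟨by ring, by ring⟩

end CfsgLib.TIMany
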