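import Cfsg.Prelude.Def_Transfer
import Cfsg.Prelude.Def_OddOrderLocal
import Cfsg.Agent.TIMany.Elem
import Cfsg.Agent.Invol.BaerSuzuki
import Cfsg.Agent.FGSB.TIHall
import Cfsg.Agent.OddLocal.CNMinimal
import Cfsg.Agent.Suborbit.Dihedral

/-!
# The elementary abelian normal subgroup case
-/

set_option autoImplicit false
set_option linter.unusedSectionVars false
set_option linter.style.haveILetI false

open Subgroup

namespace CfsgLib.TIMany

variable {G : Type*} [Group G] [Finite G] {M : Subgroup G} {z : G}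

/-- An abelian group of odd order inverted by `z`, acting without fixed points, is cyclic. -/
theorem Hyp.isCyclic_of_fpf (h : Hyp M z) {E : Subgroup G} (hE : E ≠ ⊥) [E.Normal]
    (hfpf : ∀ x ∈ M, x ≠ 1 → ∀ e ∈ E, e ≠ 1 → x * e ≠ e * x) : IsCyclic M := by
  haveI : Nontrivial E := (nontrivial_iff_ne_bot E).2 hE
  have hle : M ≤ normalizer (E : Set G) := le_normalizer_of_normal
  refine CN.isCyclic_of_fpf (K := E) (φ := (normalizerMonoidHom E).comp (inclusion hle))
    h.odd_card ?_ ?_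
  · intro g _
    haveI : IsMulCommutative (centralizer ({g} : Set M)) :=
      ⟨⟨fun a b => Subtype.ext (Subtype.ext (h.comm a.1.2 b.1.2))⟩⟩
    letI : CommGroup (centralizer ({g} : Set M)) :=
      { (inferInstance : Group (centralizer ({g} : Set M))) with
        mul_comm := fun a b => Subtype.ext (Subtype.ext (h.comm a.1.2 b.1.2)) }
    infer_instance
  · intro x hx e he
    by_contra hne
    have h1 : (x : G) * (e : G) * (x : G)⁻¹ = e := congrArg Subtype.val he
    exact hfpf x x.2 (fun hh => hx (Subtype.ext hh)) e e.2 (fun hh => hne (Subtype.ext hh))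
      (mul_inv_eq_iff_eq_mul.1 h1)

/-- A cyclic `M` makes the normalizer dihedral. -/
theorem Elem.dihedral (e : Elem M z) [IsCyclic M] (n : ℕ) [NeZero n] (hn : Nat.card M = n) :
    Nonempty (↥(normalizer (M : Set G)) ≃* DihedralGroup n) := by
  obtain ⟨r, hr⟩ := IsCyclic.exists_generator (α := M)
  have hr' : orderOf (r : G) = n := by
    rw [Subgroup.orderOf_coe, orderOf_eq_card_of_forall_mem_zpowers hr, hn]
  refine Suborbit.dihedral_of_inverts _ ⟨r, M_le_norm r.2⟩ ⟨z, e.hyp.z_mem⟩ ?_ ?_ ?_ ?_ ?_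
  · rw [e.hyp.card_norm, hn, e.card_comp, mul_comm]
  · rw [← Subgroup.orderOf_coe]; exact hr'
  · exact Subtype.ext e.hyp.z_sq
  · rintro ⟨k, hk⟩
    have hzM : z ∈ M := by
      rw [← show ((⟨r, M_le_norm r.2⟩ : normalizer (M : Set G)) ^ k : normalizer (M : Set G)).1 = z
        from congrArg Subtype.val hk]
      simpa using zpow_mem r.2 k
    exact e.hyp.z_ne (e.hyp.mem_of_sq_eq_one hzM e.hyp.z_sq)
  · exact Subtype.ext (e.hyp.z_inverts r.2)

theorem Elem.normal_case (e : Elem M z) {n : ℕ} (hn : 2 ≤ n)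
    (hk : Nat.card (kSet M z) + 2 = 2 * 2 ^ n) (hm : Nat.card M = 2 ^ n + 1)
    (hj : Nat.card (jSet M z) + 1 = 2 ^ n) :
    ∃ (d : ℕ) (E : Subgroup G), 1 ≤ d ∧ E.Normal ∧ Cfsg.IsElementaryAbelian 2 E ∧
      Nat.card E = 2 ^ (2 * d) ∧ E ⊓ normalizer (M : Set G) = ⊥ ∧
      E ⊔ normalizer (M : Set G) = ⊤ ∧
      Nonempty (↥(normalizer (M : Set G)) ≃* DihedralGroup (2 ^ d + 1)) := by
  classical
  haveI : Fact (Nat.Prime 2) := ⟨Nat.prime_two⟩
  have h := e.hyp
  have hg : Nat.card G = Nat.card M * 2 ^ (2 * n + 1) := by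
    rw [h.card_group e.many, e.card_comp, hm, pow_succ, pow_mul']
    congr 1
    generalize 2 ^ n = r at hk ⊢
    generalize Nat.card (kSet M z) = k at hk ⊢
    nlinarith
  have hHall : (Nat.card M).Coprime M.index := by
    have := M.card_mul_index
    rw [hg] at this
    rw [Nat.eq_of_mul_eq_mul_left Nat.card_pos this]
    exact Nat.Coprime.pow_right _ (Nat.coprime_two_right.2 h.odd_card)
  have hTI : Cfsg.IsTISubset (M : Set G) := fun g hg x hx hgx => by
    by_contra hx1
    exact hg (h.ti g x hx hx1 hgx)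
  -- involutions not conjugate to `z` invert no odd element
  have hcore : ∀ u : G, u ≠ 1 → u * u = 1 → ¬ IsConj z u → u ∈ Cfsg.pCore 2 G := by
    intro u hu1 hu2 hu
    by_contra hO
    obtain ⟨x, hx1, hxo, hxinv⟩ := Invol.exists_inverted_odd u (orderOf_eq_two hu1 hu2) hO
    obtain ⟨g, hg'⟩ := TIHall.exists_conj_le hHall hTI (zpowers x) (fun q hq hqd => by
      rw [Nat.card_zpowers] at hqd
      have hq2 : q ≠ 2 := fun h2 => by
        subst h2
        exact Nat.not_even_iff_odd.2 hxo (even_iff_two_dvd.2 hqd)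
      have h1 : q ∣ Nat.card M * 2 ^ (2 * n + 1) := hg ▸ hqd.trans (orderOf_dvd_natCard x)
      exact (hq.dvd_mul.1 h1).resolve_right fun h2 =>
        hq2 ((Nat.prime_dvd_prime_iff_eq hq Nat.prime_two).1 (hq.dvd_of_dvd_pow h2)))
    have hxm : g⁻¹ * x * g ∈ M := by
      have := hg' (mem_zpowers x)
      rwa [mem_map_equiv, MulAut.conj_symm_apply] at this
    have hui : u⁻¹ = u := inv_eq_of_mul_eq_one_right hu2
    have huN : g⁻¹ * u * g ∈ normalizer (M : Set G) := by
      refine h.ti _ _ hxm (fun hh => hx1 ?_) ?_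
      · calc x = g * (g⁻¹ * x * g) * g⁻¹ := by group
          _ = 1 := by rw [hh]; group
      · have e1 : g⁻¹ * u * g * (g⁻¹ * x * g) * (g⁻¹ * u * g)⁻¹ = (g⁻¹ * x * g)⁻¹ := by
          calc g⁻¹ * u * g * (g⁻¹ * x * g) * (g⁻¹ * u * g)⁻¹ = g⁻¹ * (u * x * u⁻¹) * g := by group
            _ = (g⁻¹ * x * g)⁻¹ := by rw [hxinv]; group
        rw [e1]
        exact inv_mem hxm
    obtain ⟨y, hy, hyz⟩ := h.invol_norm (fun hh => hu1 (by
      calc u = g * (g⁻¹ * u * g) * g⁻¹ := by group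
        _ = 1 := by rw [hh]; group)) (by
      calc g⁻¹ * u * g * (g⁻¹ * u * g) = g⁻¹ * (u * u) * g := by group
        _ = 1 := by rw [hu2]; group) huN
    obtain ⟨w, -, hw⟩ := h.exists_conj_z hy
    refine hu (isConj_iff.2 ⟨g * w, ?_⟩)
    calc g * w * z * (g * w)⁻¹ = g * (w * z * w⁻¹) * g⁻¹ := by group
      _ = u := by rw [hw, ← hyz]; group
  set E := Cfsg.pCore 2 G with hE
  haveI hEn : E.Normal := CfsgLib.Solvable.pCore_normal 2
  have hEp : IsPGroup 2 E := CfsgLib.Solvable.isPGroup_pCore 2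
  have hEM : ∀ x ∈ E, x ∈ M → x = 1 := fun x hxE hxM => by
    obtain ⟨k, hk'⟩ := hEp ⟨x, hxE⟩
    have h1 : orderOf x ∣ 2 ^ k := orderOf_dvd_of_pow_eq_one (congrArg Subtype.val hk')
    have h2 : orderOf x ∣ Nat.card M := by
      have := orderOf_dvd_natCard (⟨x, hxM⟩ : M)
      rwa [← Subgroup.orderOf_coe] at this
    have h3 : (2 ^ k).Coprime (Nat.card M) :=
      (Nat.coprime_two_left.2 h.odd_card).pow_left k
    exact orderOf_eq_one_iff.1 (Nat.dvd_one.1 (h3 ▸ Nat.dvd_gcd h1 h2))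
  have hzE : z ∉ E := by
    intro hzE
    obtain ⟨x, hx, hx1⟩ := M.bot_or_exists_ne_one.resolve_left h.ne_bot
    have h1 : x * z * x⁻¹ * z ∈ E := mul_mem (hEn.conj_mem z hzE x) hzE
    have h2 : x * z * x⁻¹ * z = x * x := by
      calc x * z * x⁻¹ * z = x * (z * x⁻¹ * z) := by group
        _ = x * x := by rw [h.z_inverts (inv_mem hx), inv_inv]
    exact hx1 (h.mem_of_sq_eq_one hx (hEM _ (h2 ▸ h1) (mul_mem hx hx)))
  have hzconj : ∀ u, IsConj z u → u ∉ E := by
    intro u hu huE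
    obtain ⟨a, rfl⟩ := isConj_iff.1 hu
    refine hzE ?_
    simpa [mul_assoc] using hEn.conj_mem _ huE a⁻¹
  have hEN : E ⊓ normalizer (M : Set G) = ⊥ := by
    rw [eq_bot_iff]
    rintro x ⟨hxE, hxN⟩
    rw [mem_bot]
    obtain ⟨y, hy, c, hc, rfl⟩ := h.decomp hxN
    rcases e.comp_eq hc with rfl | rfl
    · rw [mul_one] at hxE ⊢
      exact hEM y hxE hy
    · obtain ⟨w, -, hw⟩ := h.exists_conj_z hy
      exact absurd hxE (hzconj _ (isConj_iff.2 ⟨w, hw⟩))
  -- counting
  let U := {u : G // orderOf u = 2 ∧ ¬ IsConj z u}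
  have hU : Nat.card U + 1 = 2 ^ (2 * n) := by
    have h1 : Nat.card {g : G // IsConj z g} + Nat.card U = Nat.card {g : G // orderOf g = 2} := by
      rw [← Nat.card_sum]
      refine Nat.card_congr (Equiv.trans (Equiv.sumCongr (Equiv.subtypeEquivRight (q := fun g =>
        orderOf g = 2 ∧ IsConj z g) fun g => ⟨fun hg => ⟨?_, hg⟩, fun hg => hg.2⟩) (Equiv.refl _)) ?_)
      · obtain ⟨a, rfl⟩ := isConj_iff.1 hg
        rw [← MulAut.conj_apply, MulEquiv.orderOf_eq, orderOf_eq_two h.z_ne h.z_sq]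
      · exact (Equiv.sumCongr (Equiv.subtypeSubtypeEquivSubtypeInter _ _).symm
          (Equiv.subtypeSubtypeEquivSubtypeInter _ _).symm).trans (Equiv.sumCompl _)
    rw [e.class_card, h.card_invol, h.card_out e.many, hm] at h1
    rw [pow_mul']
    generalize 2 ^ n = r at h1 hk hj ⊢
    generalize Nat.card (jSet M z) = j at h1 hj
    generalize Nat.card (kSet M z) = k at h1 hk
    obtain ⟨r, rfl⟩ : ∃ r', r = r' + 1 := ⟨r - 1, by omega⟩
    have hk' : k = 2 * r := by omega
    have hj' : j = r := by omega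
    subst hk' hj'
    nlinarith
  -- the map `U ⊕ 1 → E`
  let f : U ⊕ Unit → E := Sum.elim
    (fun u => ⟨u.1, hcore u.1 (sq_of_orderOf u.2.1).1 (sq_of_orderOf u.2.1).2 u.2.2⟩) (fun _ => 1)
  have hf : Function.Injective f := by
    rintro (u | u) (v | v) hh
    · have h' : (u : G) = v := congrArg (fun w : E => (w : G)) hh
      exact congrArg Sum.inl (Subtype.ext h')
    · exact absurd (congrArg Subtype.val hh) (sq_of_orderOf u.2.1).1
    · exact absurd (congrArg Subtype.val hh).symm (sq_of_orderOf v.2.1).1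
    · rfl
  let P : E × normalizer (M : Set G) → G := fun p => (p.1 : G) * p.2
  have hP : Function.Injective P := by
    rintro ⟨a, b⟩ ⟨a', b'⟩ hh
    have hh' : (a : G) * b = a' * b' := hh
    have h1 : (a' : G)⁻¹ * a = b' * (b : G)⁻¹ := by
      calc (a' : G)⁻¹ * a = (a' : G)⁻¹ * ((a : G) * b) * (b : G)⁻¹ := by group
        _ = b' * (b : G)⁻¹ := by rw [hh']; group
    have h2 : (a' : G)⁻¹ * a ∈ E ⊓ normalizer (M : Set G) :=
      mem_inf.2 ⟨mul_mem (inv_mem a'.2) a.2, by rw [h1]; exact mul_mem b'.2 (inv_mem b.2)⟩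
    rw [hEN, mem_bot] at h2
    have ha : a = a' := Subtype.ext (inv_mul_eq_one.1 h2).symm
    subst ha
    exact Prod.ext rfl (Subtype.ext (mul_left_cancel hh'))
  have hN : Nat.card (normalizer (M : Set G)) = Nat.card M * 2 := by rw [h.card_norm, e.card_comp]
  have hle : Nat.card E ≤ 2 ^ (2 * n) := by
    have h1 := Nat.card_le_card_of_injective P hP
    rw [Nat.card_prod, hN, hg, pow_succ] at h1
    have := h.one_lt_card
    nlinarith
  have hge : 2 ^ (2 * n) ≤ Nat.card E := by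
    have h1 := Nat.card_le_card_of_injective f hf
    rw [Nat.card_sum, Nat.card_unique (α := Unit), hU] at h1
    exact h1
  have hcard : Nat.card E = 2 ^ (2 * n) := le_antisymm hle hge
  have hsurj : Function.Surjective f :=
    (hf.bijective_of_nat_card_le (by
      rw [Nat.card_sum, Nat.card_unique (α := Unit), hU, hcard])).2
  have hsq : ∀ x ∈ E, x * x = 1 := by
    intro x hx
    obtain ⟨(u | u), hu⟩ := hsurj ⟨x, hx⟩
    · rw [← show (u : G) = x from congrArg Subtype.val hu]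
      exact (sq_of_orderOf u.2.1).2
    · rw [← show (1 : G) = x from congrArg Subtype.val hu, one_mul]
  have hcomm : ∀ a ∈ E, ∀ b ∈ E, a * b = b * a := fun a ha b hb => by
    rw [← inv_eq_of_mul_eq_one_right (hsq _ (mul_mem ha hb)), mul_inv_rev,
      inv_eq_of_mul_eq_one_right (hsq a ha), inv_eq_of_mul_eq_one_right (hsq b hb)]
  have hne : E ≠ ⊥ := fun hh => by
    rw [hh, card_bot] at hcard
    have : 2 ^ 1 ≤ 2 ^ (2 * n) := Nat.pow_le_pow_right (by norm_num) (by omega)
    omega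
  haveI : IsCyclic M := h.isCyclic_of_fpf hne fun x hx hx1 u hu hu1 hh =>
    h.odd x hx hx1 u hu1 (hsq u hu) hh.symm
  refine ⟨n, E, by omega, hEn, ⟨⟨⟨fun a b => Subtype.ext (hcomm _ a.2 _ b.2)⟩⟩,
    fun x hx => by rw [pow_two]; exact hsq x hx⟩, hcard, hEN, ?_, e.dihedral _ hm⟩
  have hPs : Function.Surjective P := (hP.bijective_of_nat_card_le (by
    rw [Nat.card_prod, hcard, hN, hg, pow_succ]
    exact le_of_eq (by ring))).2
  rw [eq_top_iff]
  intro g _
  obtain ⟨⟨a, b⟩, rfl⟩ := hPs g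
  exact mul_mem_sup a.2 b.2

end CfsgLib.TIMany
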