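import Mathlib

/-!
# TI subgroups with odd centralizers and many involutions: the basic configuration
-/

set_option autoImplicit false
set_option linter.unusedSectionVars false

open Subgroup

namespace CfsgLib.TIMany

variable {G : Type*} [Group G] [Finite G]

/-- A TI subgroup with odd centralizers, inverted by an involution of its normalizer, whose
normalizer factorises through that involution's centralizer. -/
structure Hyp (M : Subgroup G) (z : G) : Prop where
  ne_bot : M ≠ ⊥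
  ti : ∀ g : G, ∀ x ∈ M, x ≠ 1 → g * x * g⁻¹ ∈ M → g ∈ normalizer (M : Set G)
  z_ne : z ≠ 1
  z_sq : z * z = 1
  z_mem : z ∈ normalizer (M : Set G)
  fac : M ⊔ (normalizer (M : Set G) ⊓ centralizer ({z} : Set G)) = normalizer (M : Set G)
  odd : ∀ x ∈ M, x ≠ 1 → ∀ t : G, t ≠ 1 → t * t = 1 → t * x ≠ x * t

/-- The centralizer of `z` in the normalizer of `M`. -/
def comp (M : Subgroup G) (z : G) : Subgroup G :=
  normalizer (M : Set G) ⊓ centralizer ({z} : Set G)

variable {M : Subgroup G} {z : G}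

theorem mem_comp {g : G} : g ∈ comp M z ↔ g ∈ normalizer (M : Set G) ∧ g * z = z * g := by
  rw [comp, mem_inf, mem_centralizer_singleton_iff]

theorem conj_mem {g x : G} (hg : g ∈ normalizer (M : Set G)) (hx : x ∈ M) : g * x * g⁻¹ ∈ M :=
  (mem_normalizer_iff.1 hg x).1 hx

theorem Hyp.mem_of_sq_eq_one (h : Hyp M z) {x : G} (hx : x ∈ M) (h2 : x * x = 1) : x = 1 := by
  by_contra hne
  exact h.odd x hx hne x hne h2 rfl

/-- Every involution normalising `M` inverts it. -/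
theorem Hyp.inverts (h : Hyp M z) {t : G} (ht : t ≠ 1) (ht2 : t * t = 1)
    (htN : t ∈ normalizer (M : Set G)) {x : G} (hx : x ∈ M) : t * x * t⁻¹ = x⁻¹ := by
  have hti : t⁻¹ = t := inv_eq_of_mul_eq_one_right ht2
  let f : M → M := fun a => ⟨(a : G)⁻¹ * (t * a * t⁻¹), mul_mem (inv_mem a.2) (conj_mem htN a.2)⟩
  have hf : Function.Injective f := by
    intro a b hab
    have e : (a : G)⁻¹ * (t * a * t⁻¹) = (b : G)⁻¹ * (t * b * t⁻¹) := congrArg Subtype.val hab
    by_contra hne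
    have hne' : (b : G) * (a : G)⁻¹ ≠ 1 := fun h' => hne (Subtype.ext (mul_inv_eq_one.1 h').symm)
    refine h.odd _ (mul_mem b.2 (inv_mem a.2)) hne' t ht ht2 ?_
    have e2 : t * b * t⁻¹ = (b : G) * (a : G)⁻¹ * (t * a * t⁻¹) := by
      rw [mul_assoc (b : G), e]; group
    calc t * ((b : G) * (a : G)⁻¹) = t * b * t⁻¹ * (t * a * t⁻¹)⁻¹ * t := by group
      _ = (b : G) * (a : G)⁻¹ * t := by rw [e2]; group
  obtain ⟨a, ha⟩ := (Finite.injective_iff_surjective.1 hf) ⟨x, hx⟩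
  have e : (a : G)⁻¹ * (t * a * t⁻¹) = x := congrArg Subtype.val ha
  rw [← e]
  calc t * ((a : G)⁻¹ * (t * a * t⁻¹)) * t⁻¹
      = (t * a * t⁻¹)⁻¹ * (t * t * a * (t * t)⁻¹) := by group
    _ = ((a : G)⁻¹ * (t * a * t⁻¹))⁻¹ := by rw [ht2]; simp [mul_assoc]

theorem Hyp.z_inv (h : Hyp M z) : z⁻¹ = z := inv_eq_of_mul_eq_one_right h.z_sq

theorem Hyp.z_inverts (h : Hyp M z) {x : G} (hx : x ∈ M) : z * x * z = x⁻¹ := by
  simpa [h.z_inv] using h.inverts h.z_ne h.z_sq h.z_mem hx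

theorem Hyp.comm (h : Hyp M z) {x y : G} (hx : x ∈ M) (hy : y ∈ M) : x * y = y * x := by
  have e1 := h.z_inverts (mul_mem hx hy)
  have e2 := h.z_inverts hx
  have e3 := h.z_inverts hy
  have e4 : z * (x * y) * z = x⁻¹ * y⁻¹ := by
    rw [← e2, ← e3]
    simp [mul_assoc, ← mul_assoc z z, h.z_sq]
  rw [e4] at e1
  have := congrArg Inv.inv e1
  simpa using this.symm

theorem Hyp.comp_inf (h : Hyp M z) {x : G} (hx : x ∈ M) (hx' : x ∈ comp M z) : x = 1 := by
  by_contra hne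
  exact h.odd x hx hne z h.z_ne h.z_sq (mem_comp.1 hx').2.symm

theorem Hyp.z_mem_comp (h : Hyp M z) : z ∈ comp M z := mem_comp.2 ⟨h.z_mem, rfl⟩

theorem Hyp.decomp (h : Hyp M z) {g : G} (hg : g ∈ normalizer (M : Set G)) :
    ∃ x ∈ M, ∃ c ∈ comp M z, g = x * c := by
  have hle : comp M z ≤ normalizer (M : Set G) := inf_le_left
  have hset := coe_mul_of_right_le_normalizer_left M (comp M z) hle
  have hg' : g ∈ ((M ⊔ comp M z : Subgroup G) : Set G) := by
    rw [SetLike.mem_coe, comp, h.fac]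
    exact hg
  rw [hset] at hg'
  obtain ⟨x, hx, c, hc, rfl⟩ := hg'
  exact ⟨x, hx, c, hc, rfl⟩

theorem Hyp.decomp_unique (h : Hyp M z) {x x' c c' : G} (hx : x ∈ M) (hx' : x' ∈ M)
    (hc : c ∈ comp M z) (hc' : c' ∈ comp M z) (e : x * c = x' * c') : x = x' ∧ c = c' := by
  have e1 : x'⁻¹ * x = c' * c⁻¹ := by
    rw [inv_mul_eq_iff_eq_mul, ← mul_assoc, eq_mul_inv_iff_mul_eq]
    exact e
  have h1 := h.comp_inf (mul_mem (inv_mem hx') hx) (e1 ▸ mul_mem hc' (inv_mem hc))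
  have hxx : x = x' := (inv_mul_eq_one.1 h1).symm
  exact ⟨hxx, by rw [hxx] at e; exact mul_left_cancel e⟩

/-- An element of order at most two of the complement is `1` or `z`. -/
theorem Hyp.comp_invol (h : Hyp M z) {c : G} (hc : c ∈ comp M z) (h2 : c * c = 1) :
    c = 1 ∨ c = z := by
  by_cases hc1 : c = 1
  · exact Or.inl hc1
  right
  obtain ⟨hcN, hcz⟩ := mem_comp.1 hc
  by_contra hne
  have hcz1 : c * z ≠ 1 := fun e => hne (by
    rw [mul_eq_one_iff_eq_inv, h.z_inv] at e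
    exact e)
  obtain ⟨x, hx, hx1⟩ := (M.bot_or_exists_ne_one).resolve_left h.ne_bot
  refine h.odd x hx hx1 (c * z) hcz1 ?_ ?_
  · calc c * z * (c * z) = c * (z * c) * z := by group
      _ = c * c * (z * z) := by rw [← hcz]; group
      _ = 1 := by rw [h2, h.z_sq, one_mul]
  · have e1 := h.z_inverts hx
    have e2 := h.inverts hc1 h2 hcN (inv_mem hx)
    rw [inv_eq_of_mul_eq_one_right h2, inv_inv, ← e1] at e2
    calc c * z * x = c * (z * x * z) * c * (c * z) := by
          simp [mul_assoc, ← mul_assoc c c, h2, h.z_sq]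
      _ = x * (c * z) := by rw [e2]

/-- The involutions of the normalizer are the elements `x z`. -/
theorem Hyp.invol_norm (h : Hyp M z) {t : G} (ht : t ≠ 1) (ht2 : t * t = 1)
    (htN : t ∈ normalizer (M : Set G)) : ∃ x ∈ M, t = x * z := by
  obtain ⟨x, hx, c, hc, rfl⟩ := h.decomp htN
  have hcN := (mem_comp.1 hc).1
  have hcc : x * (c * x * c⁻¹) * (c * c) = 1 * (1 : G) := by
    rw [one_mul, ← ht2]
    group
  obtain ⟨-, h2⟩ := h.decomp_unique (mul_mem hx (conj_mem hcN hx)) (one_mem _) (mul_mem hc hc)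
    (one_mem _) hcc
  rcases h.comp_invol hc h2 with rfl | rfl
  · exact absurd (h.mem_of_sq_eq_one hx (by simpa using ht2)) (by simpa using ht)
  · exact ⟨x, hx, rfl⟩

theorem Hyp.mul_z_invol (h : Hyp M z) {x : G} (hx : x ∈ M) : x * z ≠ 1 ∧ x * z * (x * z) = 1 := by
  refine ⟨fun e => ?_, ?_⟩
  · have hzM : z ∈ M := by
      rw [mul_eq_one_iff_eq_inv] at e
      simpa [e] using inv_mem hx
    exact h.z_ne (h.mem_of_sq_eq_one hzM h.z_sq)
  · calc x * z * (x * z) = x * (z * x * z) := by group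
      _ = 1 := by rw [h.z_inverts hx, mul_inv_cancel]

/-- Square roots inside `M`. -/
theorem Hyp.exists_sqrt (h : Hyp M z) {x : G} (hx : x ∈ M) : ∃ y ∈ M, y * y = x := by
  let f : M → M := fun a => a * a
  have hf : Function.Injective f := by
    intro a b hab
    have e : (a : G) * a = b * b := congrArg Subtype.val hab
    have hcomm : Commute (a : G) ((b : G)⁻¹) := h.comm a.2 (inv_mem b.2)
    have e2 : ((a : G) * (b : G)⁻¹) * ((a : G) * (b : G)⁻¹) = 1 := by
      rw [hcomm.symm.mul_mul_mul_comm, e]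
      group
    exact Subtype.ext (mul_inv_eq_one.1 (h.mem_of_sq_eq_one (mul_mem a.2 (inv_mem b.2)) e2))
  obtain ⟨a, ha⟩ := (Finite.injective_iff_surjective.1 hf) ⟨x, hx⟩
  exact ⟨a, a.2, congrArg Subtype.val ha⟩

/-- `M` is conjugate-transitive on `M z`. -/
theorem Hyp.exists_conj_z (h : Hyp M z) {x : G} (hx : x ∈ M) :
    ∃ y ∈ M, y * z * y⁻¹ = x * z := by
  obtain ⟨y, hy, rfl⟩ := h.exists_sqrt hx
  refine ⟨y, hy, ?_⟩
  rw [← h.z_inverts hy]
  simp [mul_assoc, ← mul_assoc z z, h.z_sq]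

theorem Hyp.conj_z_inj (h : Hyp M z) {x y : G} (hx : x ∈ M) (hy : y ∈ M)
    (e : x * z * x⁻¹ = y * z * y⁻¹) : x = y := by
  have hm : y⁻¹ * x ∈ M := mul_mem (inv_mem hy) hx
  by_contra hne
  refine h.odd _ hm (fun e' => hne (inv_mul_eq_one.1 e').symm) z h.z_ne h.z_sq ?_
  calc z * (y⁻¹ * x) = y⁻¹ * (y * z * y⁻¹) * x := by group
    _ = y⁻¹ * x * z := by rw [← e]; group

end CfsgLib.TIMany
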