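import Cfsg.Agent.TIMany.Basic

/-!
# TI subgroups with many involutions: every element outside the normalizer is `x t`
-/

set_option autoImplicit false
set_option linter.unusedSectionVars false

open Subgroup

namespace CfsgLib.TIMany

variable {G : Type*} [Group G] [Finite G] {M : Subgroup G} {z : G}

/-- The involutions outside the normalizer. -/
def outInv (M : Subgroup G) : Set G :=
  {t | t ≠ 1 ∧ t * t = 1 ∧ t ∉ normalizer (M : Set G)}

/-- The involutions outside the normalizer that centralise `z`. -/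
def kSet (M : Subgroup G) (z : G) : Set G :=
  {s | s ∈ outInv M ∧ s * z = z * s}

theorem M_le_norm : M ≤ normalizer (M : Set G) := le_normalizer

theorem conj_outInv {t x : G} (ht : t ∈ outInv M) (hx : x ∈ normalizer (M : Set G)) :
    x * t * x⁻¹ ∈ outInv M := by
  refine ⟨fun e => ht.1 (conj_eq_one_iff.1 e), ?_, fun hm => ht.2.2 ?_⟩
  · calc x * t * x⁻¹ * (x * t * x⁻¹) = x * (t * t) * x⁻¹ := by group
      _ = 1 := by rw [ht.2.1]; group
  · have := mul_mem (mul_mem (inv_mem hx) hm) hx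
    simpa [mul_assoc] using this

theorem Hyp.mul_inj (h : Hyp M z) {x x' t t' : G} (hx : x ∈ M) (hx' : x' ∈ M) (ht : t ∈ outInv M)
    (ht' : t' ∈ outInv M) (e : x * t = x' * t') : x = x' ∧ t = t' := by
  have e1 : x'⁻¹ * x * t = t' := by rw [mul_assoc, e, inv_mul_cancel_left]
  have hti : t⁻¹ = t := inv_eq_of_mul_eq_one_right ht.2.1
  have hm : x'⁻¹ * x ∈ M := mul_mem (inv_mem hx') hx
  have hxx : x'⁻¹ * x = 1 := by
    by_contra hne
    refine ht.2.2 (h.ti t _ hm hne ?_)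
    have e2 : x'⁻¹ * x * t * (x'⁻¹ * x * t) = 1 := by rw [e1]; exact ht'.2.1
    have e3 : t * (x'⁻¹ * x) * t⁻¹ = (x'⁻¹ * x)⁻¹ := by
      rw [hti]
      refine eq_inv_of_mul_eq_one_right ?_
      calc x'⁻¹ * x * (t * (x'⁻¹ * x) * t) = x'⁻¹ * x * t * (x'⁻¹ * x * t) := by group
        _ = 1 := e2
    rw [e3]
    exact inv_mem hm
  have hx2 : x = x' := (inv_mul_eq_one.1 hxx).symm
  exact ⟨hx2, by rw [hx2] at e; exact mul_left_cancel e⟩

theorem card_not_mem (H : Subgroup G) :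
    Nat.card {g : G // g ∉ H} + Nat.card H = Nat.card G := by
  classical
  rw [add_comm]
  exact (Nat.card_sum ..).symm.trans (Nat.card_congr (Equiv.sumCompl fun g : G => g ∈ H))

theorem orderOf_eq_two {t : G} (h1 : t ≠ 1) (h2 : t * t = 1) : orderOf t = 2 :=
  orderOf_eq_prime (by rw [pow_two, h2]) h1

theorem sq_of_orderOf {t : G} (h : orderOf t = 2) : t ≠ 1 ∧ t * t = 1 :=
  ⟨fun e => by rw [e, orderOf_one] at h; omega, by rw [← pow_two, ← h]; exact pow_orderOf_eq_one t⟩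

theorem Hyp.card_invol (h : Hyp M z) :
    Nat.card {g : G // orderOf g = 2} = Nat.card M + Nat.card (outInv M) := by
  classical
  rw [← Nat.card_sum]
  refine (Nat.card_congr (Equiv.ofBijective (Sum.elim
    (fun x : M => (⟨(x : G) * z, orderOf_eq_two (h.mul_z_invol x.2).1 (h.mul_z_invol x.2).2⟩ :
      {g : G // orderOf g = 2}))
    (fun t : outInv M => ⟨t, orderOf_eq_two t.2.1 t.2.2.1⟩)) ⟨?_, ?_⟩)).symm
  · rintro (x | t) (x' | t') e <;> simp only [Sum.elim_inl, Sum.elim_inr, Subtype.mk.injEq] at e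
    · exact congrArg Sum.inl (Subtype.ext (mul_right_cancel e))
    · exact absurd (e ▸ mul_mem (M_le_norm x.2) h.z_mem) t'.2.2.2
    · exact absurd (e ▸ mul_mem (M_le_norm x'.2) h.z_mem) t.2.2.2
    · exact congrArg Sum.inr (Subtype.ext e)
  · rintro ⟨g, hg⟩
    obtain ⟨h1, h2⟩ := sq_of_orderOf hg
    by_cases hgN : g ∈ normalizer (M : Set G)
    · obtain ⟨x, hx, rfl⟩ := h.invol_norm h1 h2 hgN
      exact ⟨Sum.inl ⟨x, hx⟩, rfl⟩
    · exact ⟨Sum.inr ⟨g, h1, h2, hgN⟩, rfl⟩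

/-- The map `(x, t) ↦ x t` into the complement of the normalizer. -/
def prodOut (M : Subgroup G) (p : M × outInv M) : {g : G // g ∉ normalizer (M : Set G)} :=
  ⟨(p.1 : G) * p.2, fun hm => p.2.2.2.2 (by
    simpa using mul_mem (inv_mem (M_le_norm p.1.2)) hm)⟩

theorem Hyp.prodOut_inj (h : Hyp M z) : Function.Injective (prodOut M) := by
  rintro ⟨x, t⟩ ⟨x', t'⟩ e
  obtain ⟨e1, e2⟩ := h.mul_inj x.2 x'.2 t.2 t'.2 (congrArg Subtype.val e)
  exact Prod.ext (Subtype.ext e1) (Subtype.ext e2)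

theorem Hyp.key (h : Hyp M z) (hmany : M.index < Nat.card {g : G // orderOf g = 2}) {g : G}
    (hg : g ∉ normalizer (M : Set G)) : ∃ x ∈ M, ∃ t ∈ outInv M, g = x * t := by
  classical
  by_contra hcon
  push Not at hcon
  have hBmem : ∀ p : M × M, (p.1 : G) * g * p.2 ∉ normalizer (M : Set G) := fun p hm => hg (by
    simpa [mul_assoc] using mul_mem (mul_mem (inv_mem (M_le_norm p.1.2)) hm)
      (inv_mem (M_le_norm p.2.2)))
  let B : M × M → {g : G // g ∉ normalizer (M : Set G)} := fun p => ⟨_, hBmem p⟩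
  have hBinj : Function.Injective B := by
    rintro ⟨x, y⟩ ⟨x', y'⟩ e
    have e' : (x : G) * g * y = x' * g * y' := congrArg Subtype.val e
    have e1 : g⁻¹ * ((x' : G)⁻¹ * x) * g = y' * (y : G)⁻¹ := by
      calc g⁻¹ * ((x' : G)⁻¹ * x) * g = g⁻¹ * (x' : G)⁻¹ * ((x : G) * g * y) * (y : G)⁻¹ := by group
        _ = y' * (y : G)⁻¹ := by rw [e']; group
    have hm : (x' : G)⁻¹ * x ∈ M := mul_mem (inv_mem x'.2) x.2
    have hxx : (x' : G)⁻¹ * x = 1 := by
      by_contra hne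
      refine hg (inv_mem_iff.1 (h.ti g⁻¹ _ hm hne ?_))
      rw [inv_inv, e1]
      exact mul_mem y'.2 (inv_mem y.2)
    have hx2 : x = x' := Subtype.ext (inv_mul_eq_one.1 hxx).symm
    subst hx2
    exact Prod.ext rfl (Subtype.ext (mul_left_cancel e'))
  have hinj : Function.Injective (Sum.elim (prodOut M) B) := by
    refine h.prodOut_inj.sumElim hBinj ?_
    rintro ⟨x, t⟩ ⟨a, b⟩ e
    have e' : (x : G) * t = a * g * b := congrArg Subtype.val e
    have hb : (b : G) ∈ normalizer (M : Set G) := M_le_norm b.2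
    refine hcon ((a : G)⁻¹ * x * (b : G)⁻¹) (mul_mem (mul_mem (inv_mem a.2) x.2) (inv_mem b.2))
      ((b : G) * t * (b : G)⁻¹) (conj_outInv t.2 hb) ?_
    calc g = (a : G)⁻¹ * ((a : G) * g * b) * (b : G)⁻¹ := by group
      _ = _ := by rw [← e']; group
  have hle := Nat.card_le_card_of_injective _ hinj
  rw [Nat.card_sum, Nat.card_prod, Nat.card_prod] at hle
  have h1 := card_not_mem (normalizer (M : Set G))
  have h2 := M.index_mul_card
  rw [h.card_invol] at hmany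
  have h3 : 0 < Nat.card (normalizer (M : Set G)) := Nat.card_pos
  have h4 : M.index * Nat.card M < (Nat.card M + Nat.card (outInv M)) * Nat.card M :=
    Nat.mul_lt_mul_of_pos_right hmany Nat.card_pos
  nlinarith

theorem Hyp.card_norm (h : Hyp M z) :
    Nat.card (normalizer (M : Set G)) = Nat.card M * Nat.card (comp M z) := by
  rw [← Nat.card_prod]
  refine (Nat.card_congr (Equiv.ofBijective
    (fun p : M × comp M z => (⟨(p.1 : G) * p.2, mul_mem (M_le_norm p.1.2) (mem_comp.1 p.2.2).1⟩ :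
      normalizer (M : Set G))) ⟨?_, ?_⟩)).symm
  · rintro ⟨x, c⟩ ⟨x', c'⟩ e
    obtain ⟨e1, e2⟩ := h.decomp_unique x.2 x'.2 c.2 c'.2 (congrArg Subtype.val e)
    exact Prod.ext (Subtype.ext e1) (Subtype.ext e2)
  · rintro ⟨g, hg⟩
    obtain ⟨x, hx, c, hc, rfl⟩ := h.decomp hg
    exact ⟨⟨⟨x, hx⟩, ⟨c, hc⟩⟩, rfl⟩

/-- Every outside involution centralises an involution of the normalizer. -/
theorem Hyp.exists_kSet (h : Hyp M z) (hmany : M.index < Nat.card {g : G // orderOf g = 2})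
    {t : G} (ht : t ∈ outInv M) : ∃ y ∈ M, ∃ s ∈ kSet M z, t = y * s * y⁻¹ := by
  have hzt : z * t ∉ normalizer (M : Set G) := fun hm => ht.2.2 (by
    simpa [← mul_assoc, h.z_sq] using mul_mem h.z_mem hm)
  obtain ⟨x, hx, u, hu, e⟩ := h.key hmany hzt
  obtain ⟨y, hy, hyz⟩ := h.exists_conj_z (inv_mem hx)
  have eu : u = x⁻¹ * z * t := by rw [mul_assoc, e, inv_mul_cancel_left]
  obtain ⟨-, hw2⟩ := h.mul_z_invol (inv_mem hx)
  have hcomm : x⁻¹ * z * t = t * (x⁻¹ * z) := by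
    have h1 : (x⁻¹ * z * t)⁻¹ = x⁻¹ * z * t := by
      rw [← eu]; exact inv_eq_of_mul_eq_one_right hu.2.1
    rw [mul_inv_rev, inv_eq_of_mul_eq_one_right hw2, inv_eq_of_mul_eq_one_right ht.2.1] at h1
    exact h1.symm
  refine ⟨y, hy, y⁻¹ * t * y, ⟨?_, ?_⟩, by group⟩
  · simpa using conj_outInv ht (inv_mem (M_le_norm hy))
  · have hz : z = y⁻¹ * (x⁻¹ * z) * y := by rw [← hyz]; group
    calc y⁻¹ * t * y * z = y⁻¹ * (t * (x⁻¹ * z)) * y := by
          conv_lhs => rw [hz]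
          group
      _ = y⁻¹ * (x⁻¹ * z * t) * y := by rw [hcomm]
      _ = z * (y⁻¹ * t * y) := by
          conv_rhs => rw [hz]
          group

theorem Hyp.kConj_inj (h : Hyp M z) {y y' s s' : G} (hy : y ∈ M) (hy' : y' ∈ M) (hs : s ∈ kSet M z)
    (hs' : s' ∈ kSet M z) (e : y * s * y⁻¹ = y' * s' * y'⁻¹) : y = y' ∧ s = s' := by
  have hr : y'⁻¹ * y ∈ M := mul_mem (inv_mem hy') hy
  have e1 : y'⁻¹ * y * s = s' * (y'⁻¹ * y) := by
    calc y'⁻¹ * y * s = y'⁻¹ * (y * s * y⁻¹) * y := by group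
      _ = s' * (y'⁻¹ * y) := by rw [e]; group
  have hr1 : y'⁻¹ * y = 1 := by
    generalize hrdef : y'⁻¹ * y = r at hr e1
    have hrz := h.z_inverts hr
    by_contra hne
    refine h.odd (r * r) (mul_mem hr hr) (fun e2 => hne (h.mem_of_sq_eq_one hr e2)) s hs.1.1
      hs.1.2.1 ?_
    have a1 : z * r = r⁻¹ * z := by
      calc z * r = z * r * (z * z) := by rw [h.z_sq, mul_one]
        _ = r⁻¹ * z := by rw [← hrz]; group
    have b1 : r * s = s' * r := e1
    have b2 : r⁻¹ * s = s' * r⁻¹ := by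
      calc r⁻¹ * s = r⁻¹ * z * (z * s) := by
            rw [← mul_assoc _ z s, mul_assoc r⁻¹, h.z_sq, mul_one]
        _ = z * (r * s) * z := by rw [← a1, ← hs.2]; group
        _ = s' * (z * r * z) := by rw [b1, ← mul_assoc z s', ← hs'.2]; group
        _ = s' * r⁻¹ := by rw [hrz]
    calc s * (r * r) = r * (r⁻¹ * s) * (r * r) := by group
      _ = r * (s' * r) := by rw [b2]; group
      _ = r * r * s := by rw [← b1]; group
  have hy2 : y = y' := (inv_mul_eq_one.1 hr1).symm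
  exact ⟨hy2, by rw [hy2] at e; exact mul_left_cancel (mul_right_cancel e)⟩

theorem Hyp.card_out (h : Hyp M z) (hmany : M.index < Nat.card {g : G // orderOf g = 2}) :
    Nat.card (outInv M) = Nat.card M * Nat.card (kSet M z) := by
  rw [← Nat.card_prod]
  refine (Nat.card_congr (Equiv.ofBijective
    (fun p : M × kSet M z => (⟨(p.1 : G) * p.2 * (p.1 : G)⁻¹, conj_outInv p.2.2.1 (M_le_norm p.1.2)⟩ :
      outInv M)) ⟨?_, ?_⟩)).symm
  · rintro ⟨y, s⟩ ⟨y', s'⟩ e
    obtain ⟨e1, e2⟩ := h.kConj_inj y.2 y'.2 s.2 s'.2 (congrArg Subtype.val e)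
    exact Prod.ext (Subtype.ext e1) (Subtype.ext e2)
  · rintro ⟨t, ht⟩
    obtain ⟨y, hy, s, hs, rfl⟩ := h.exists_kSet hmany ht
    exact ⟨⟨⟨y, hy⟩, ⟨s, hs⟩⟩, rfl⟩

theorem Hyp.card_group (h : Hyp M z) (hmany : M.index < Nat.card {g : G // orderOf g = 2}) :
    Nat.card G = Nat.card M * (Nat.card M * Nat.card (kSet M z) + Nat.card (comp M z)) := by
  rw [← card_not_mem (normalizer (M : Set G)), mul_add, ← h.card_norm, ← h.card_out hmany,
    ← Nat.card_prod]
  congr 1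
  refine (Nat.card_congr (Equiv.ofBijective (prodOut M) ⟨h.prodOut_inj, ?_⟩)).symm
  rintro ⟨g, hg⟩
  obtain ⟨x, hx, t, ht, rfl⟩ := h.key hmany hg
  exact ⟨⟨⟨x, hx⟩, ⟨t, ht⟩⟩, rfl⟩

end CfsgLib.TIMany
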